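import Cfsg.Agent.H90.S2Fi24.Data

/-! Check (generated, owner: helper90). -/

set_option autoImplicit false
set_option maxRecDepth 1000000

namespace Cfsg.Agent.H90.S2Fi24

open Cfsg.Agent.CosetEnum Cfsg.Agent.H90.Sift Cfsg.Agent.H90.Sift2

theorem da2_40 : chunkB 14 16383 noGap (dscB appA2 20 0xfffff (tb mA2) 0) mA2 160 0x10000000100000000300000000800000003000000008000000010000000040000000100000000c00000003000000008000000010000000040000000300000000c0000000200000001000000003000000004000000010000000080000000400000000c0000000100000000c001000030000000080000000200040000c0000000600080000c00000003000000008000000030000000180020000200000000c00000003000000018000000060000000080000000400000000c0000000100000000800000002000000008000000060000000040000000300040000400000003000400004000000030004000100010000300000000c000000060008000040000000300000000c001000030004000180000000200000000c00000002000000008000000020000000040000000200000000c0000000100040000c000000020004000040000000600000000c0000000300000001800000001000400004000000030000000080020000300040001800100005000400004000000030000000140000000200080000800000002000000018000000030000000180000000300080000800200001000400018001000030000000180030000200180000400000003000000008001000030000000180020000100180000c000000020000001880000000200000000c0000000200000000c000000030000000180000000600040000c0000000600000000c0000000200040000c0000000600000000c00000006000000008002000020004000100000000600040000c00000006000000004000000030000000040000000200080000c0010000600000000c000000060004000140000000500040000c0020000100000000c0030000200080000c002000060008000140000000300080001800400001000400004006000030000000180000000300040001800000005000800008003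 306687 306936 = true := by decide +kernel

theorem da2_f1 : Chs 14 16383 noGap (dscB appA2 20 0xfffff (tb mA2) 0) mA2 160 306687 306936 :=
  (show Chs 14 16383 noGap (dscB appA2 20 0xfffff (tb mA2) 0) mA2 _ 306687 306936 from (.one da2_40 rfl)).cast rfl

end Cfsg.Agent.H90.S2Fi24
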