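import Cfsg.Agent.H90.S2Fi24.Data

/-! Check (generated, owner: helper90). -/

set_option autoImplicit false
set_option maxRecDepth 1000000

namespace Cfsg.Agent.H90.S2Fi24

open Cfsg.Agent.CosetEnum Cfsg.Agent.H90.Sift Cfsg.Agent.H90.Sift2

theorem da5_0 : chunkB 16 65535 noGap (dscB appA5 8 0xff (tb mA5) 34755) mA5 24 0x12db9011fb001457701c28c01335c02235401016c01a7490325900104100205f90202b10131ff020d8c01148903160b012cef01074e0303f0040f026104730553c22601d70087c3 0 306936 = true := by decide +kernel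

theorem da5_f0 : Chs 16 65535 noGap (dscB appA5 8 0xff (tb mA5) 34755) mA5 24 0 306936 :=
  (show Chs 16 65535 noGap (dscB appA5 8 0xff (tb mA5) 34755) mA5 _ 0 306936 from (.one da5_0 rfl)).cast rfl

end Cfsg.Agent.H90.S2Fi24
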