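import Cfsg.Agent.H90.S2Fi24.Data

/-! Check (generated, owner: helper90). -/

set_option autoImplicit false
set_option maxRecDepth 1000000

namespace Cfsg.Agent.H90.S2Fi24

open Cfsg.Agent.CosetEnum Cfsg.Agent.H90.Sift Cfsg.Agent.H90.Sift2

theorem db2_40 : chunkB 8 255 noGap (dscB appB2 40 0xffffffffff (tb mB2) 7) mB2 160 0x39300000000031400000000030100000000033300000000032400000000031e00000000031100000000030100000000030600000000031f00000000031500000000030100000000030e00000000030400000000030400000000030b00000000030900000000034800000000030000000000030f00000000030d00000000030600000000032200000000030400000000030100000000030c00000000030a00000000032c00000000030a00000000030900000000030500000000030c00000000030400000000031700000000032900000000030500000000030c00000000033100000000030600000000031400000000031000000000031300000000030000000000030900000000030700000000032c00000000033700000000031e00000000030400000000031900000000033500000000032e00000000030800000000031f00000000031400000000031c00000000032e00000000030f00000000030100000000030d00000000031900000000031600000000033700000000030f00000000030b00000000030000000000034600000000030000000000030800000000030700000000030100000000030700000000031500000000030900000000030200000000030700000000032100000000030600000000031d00000000031c00000000030000000000030000000000030300000000030600000000030a00000000030e00000000030100000000030b00000000038a00000000030300000000030b000000000303000000000307000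00000030000000000030500000000031500000000030100000000031400000000031200000000030000000000031700000000030c00000000030200000000030200000000030c00000000032200000000030a00000000031e00000000031100000000030300000000032400000000030100000000030500000000030b00000000030100000000030700000000030c00000000031200000000031800000000030500000000030000000000030b00000000031400000000030400000000030300000000030200000000031200000000030000000000030300000000030a00000000033c00000000030500000000030a00000000030300000000030500000000030100000000030f00000000031500000000030000000000030000000000030200000000030700000000030300000000030800000000031200000000030d00000000031000000000030200000000030600000000032d000000000300000000000313000000000301000000000300000000000303000000000309000000000313000000000304000000000303000000000310 303999 306936 = true := by decide +kernel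

theorem db2_f1 : Chs 8 255 noGap (dscB appB2 40 0xffffffffff (tb mB2) 7) mB2 160 303999 306936 :=
  (show Chs 8 255 noGap (dscB appB2 40 0xffffffffff (tb mB2) 7) mB2 _ 303999 306936 from (.one db2_40 rfl)).cast rfl

end Cfsg.Agent.H90.S2Fi24
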