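import Cfsg.Agent.H90.S2Fi24.Data

/-! Check (generated, owner: helper90). -/

set_option autoImplicit false
set_option maxRecDepth 1000000

namespace Cfsg.Agent.H90.S2Fi24

open Cfsg.Agent.CosetEnum Cfsg.Agent.H90.Sift Cfsg.Agent.H90.Sift2

theorem db5_0 : chunkB 16 65535 noGap (dscB appB5 8 0xff (tb mB5) 19751) mB5 24 0x14e4c016edf0205c001417e021a6101155101148f0105280121b901562f0108b3012bd2035e19028d7e0408522147920517660122a2010d1f029cb921059c13207341105e004d27 0 306936 = true := by decide +kernel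

theorem db5_f0 : Chs 16 65535 noGap (dscB appB5 8 0xff (tb mB5) 19751) mB5 24 0 306936 :=
  (show Chs 16 65535 noGap (dscB appB5 8 0xff (tb mB5) 19751) mB5 _ 0 306936 from (.one db5_0 rfl)).cast rfl

end Cfsg.Agent.H90.S2Fi24
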