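import Cfsg.Agent.H90.S2Fi24.Data

/-! Check (generated, owner: helper90). -/

set_option autoImplicit false
set_option maxRecDepth 1000000

namespace Cfsg.Agent.H90.S2Fi24

open Cfsg.Agent.CosetEnum Cfsg.Agent.H90.Sift Cfsg.Agent.H90.Sift2

theorem n0 : allR (newC P Q wy 4 3 1) 0 847 = true := by decide +kernel

theorem n1 : allR (newC P Q wy 4 3 1) 847 847 = true := by decide +kernel

theorem n2 : allR (newC P Q wy 4 3 1) 1694 847 = true := by decide +kernel

theorem n3 : allR (newC P Q wy 4 3 1) 2541 847 = true := by decide +kernel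

theorem n4 : allR (newC P Q wy 4 3 1) 3388 847 = true := by decide +kernel

theorem n5 : allR (newC P Q wy 4 3 1) 4235 847 = true := by decide +kernel

theorem n6 : allR (newC P Q wy 4 3 1) 5082 847 = true := by decide +kernel

theorem n7 : allR (newC P Q wy 4 3 1) 5929 847 = true := by decide +kernel

theorem n8 : allR (newC P Q wy 4 3 1) 6776 847 = true := by decide +kernel

theorem n9 : allR (newC P Q wy 4 3 1) 7623 847 = true := by decide +kernel

theorem nf0 : CovI (newC P Q wy 4 3 1) 0 8470 := (.app (.app (.app (.one n0 rfl) (.one n1 rfl)) (.app (.one n2 rfl) (.app (.one n3 rfl) (.one n4 rfl)))) (.app (.app (.one n5 rfl) (.one n6 rfl)) (.app (.one n7 rfl) (.app (.one n8 rfl) (.one n9 rfl)))))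

end Cfsg.Agent.H90.S2Fi24
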