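import Cfsg.Agent.H90.S2Fi24.Data

/-! Check (generated, owner: helper90). -/

set_option autoImplicit false
set_option maxRecDepth 1000000

namespace Cfsg.Agent.H90.S2Fi24

open Cfsg.Agent.CosetEnum Cfsg.Agent.H90.Sift Cfsg.Agent.H90.Sift2

theorem n10 : allR (newC P Q wy 4 3 1) 8470 847 = true := by decide +kernel

theorem n11 : allR (newC P Q wy 4 3 1) 9317 847 = true := by decide +kernel

theorem n12 : allR (newC P Q wy 4 3 1) 10164 847 = true := by decide +kernel

theorem n13 : allR (newC P Q wy 4 3 1) 11011 847 = true := by decide +kernel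

theorem n14 : allR (newC P Q wy 4 3 1) 11858 847 = true := by decide +kernel

theorem n15 : allR (newC P Q wy 4 3 1) 12705 847 = true := by decide +kernel

theorem n16 : allR (newC P Q wy 4 3 1) 13552 847 = true := by decide +kernel

theorem n17 : allR (newC P Q wy 4 3 1) 14399 847 = true := by decide +kernel

theorem n18 : allR (newC P Q wy 4 3 1) 15246 847 = true := by decide +kernel

theorem n19 : allR (newC P Q wy 4 3 1) 16093 847 = true := by decide +kernel

theorem nf1 : CovI (newC P Q wy 4 3 1) 8470 16940 := (.app (.app (.app (.one n10 rfl) (.one n11 rfl)) (.app (.one n12 rfl) (.app (.one n13 rfl) (.one n14 rfl)))) (.app (.app (.one n15 rfl) (.one n16 rfl)) (.app (.one n17 rfl) (.app (.one n18 rfl) (.one n19 rfl)))))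

end Cfsg.Agent.H90.S2Fi24
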