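import Cfsg.Agent.H90.S2Fi24.Data

/-! Check (generated, owner: helper90). -/

set_option autoImplicit false
set_option maxRecDepth 1000000

namespace Cfsg.Agent.H90.S2Fi24

open Cfsg.Agent.CosetEnum Cfsg.Agent.H90.Sift Cfsg.Agent.H90.Sift2

theorem n100 : allR (newC P Q wy 4 3 1) 84700 847 = true := by decide +kernel

theorem n101 : allR (newC P Q wy 4 3 1) 85547 847 = true := by decide +kernel

theorem n102 : allR (newC P Q wy 4 3 1) 86394 847 = true := by decide +kernel

theorem n103 : allR (newC P Q wy 4 3 1) 87241 847 = true := by decide +kernel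

theorem n104 : allR (newC P Q wy 4 3 1) 88088 847 = true := by decide +kernel

theorem n105 : allR (newC P Q wy 4 3 1) 88935 847 = true := by decide +kernel

theorem n106 : allR (newC P Q wy 4 3 1) 89782 847 = true := by decide +kernel

theorem n107 : allR (newC P Q wy 4 3 1) 90629 847 = true := by decide +kernel

theorem n108 : allR (newC P Q wy 4 3 1) 91476 847 = true := by decide +kernel

theorem n109 : allR (newC P Q wy 4 3 1) 92323 847 = true := by decide +kernel

theorem nf10 : CovI (newC P Q wy 4 3 1) 84700 93170 := (.app (.app (.app (.one n100 rfl) (.one n101 rfl)) (.app (.one n102 rfl) (.app (.one n103 rfl) (.one n104 rfl)))) (.app (.app (.one n105 rfl) (.one n106 rfl)) (.app (.one n107 rfl) (.app (.one n108 rfl) (.one n109 rfl)))))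

end Cfsg.Agent.H90.S2Fi24
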