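import Cfsg.Agent.H90.S2Fi24.Data

/-! Check (generated, owner: helper90). -/

set_option autoImplicit false
set_option maxRecDepth 1000000

namespace Cfsg.Agent.H90.S2Fi24

open Cfsg.Agent.CosetEnum Cfsg.Agent.H90.Sift Cfsg.Agent.H90.Sift2

theorem n110 : allR (newC P Q wy 4 3 1) 93170 847 = true := by decide +kernel

theorem n111 : allR (newC P Q wy 4 3 1) 94017 847 = true := by decide +kernel

theorem n112 : allR (newC P Q wy 4 3 1) 94864 847 = true := by decide +kernel

theorem n113 : allR (newC P Q wy 4 3 1) 95711 847 = true := by decide +kernel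

theorem n114 : allR (newC P Q wy 4 3 1) 96558 847 = true := by decide +kernel

theorem n115 : allR (newC P Q wy 4 3 1) 97405 847 = true := by decide +kernel

theorem n116 : allR (newC P Q wy 4 3 1) 98252 847 = true := by decide +kernel

theorem n117 : allR (newC P Q wy 4 3 1) 99099 847 = true := by decide +kernel

theorem n118 : allR (newC P Q wy 4 3 1) 99946 847 = true := by decide +kernel

theorem n119 : allR (newC P Q wy 4 3 1) 100793 847 = true := by decide +kernel

theorem nf11 : CovI (newC P Q wy 4 3 1) 93170 101640 := (.app (.app (.app (.one n110 rfl) (.one n111 rfl)) (.app (.one n112 rfl) (.app (.one n113 rfl) (.one n114 rfl)))) (.app (.app (.one n115 rfl) (.one n116 rfl)) (.app (.one n117 rfl) (.app (.one n118 rfl) (.one n119 rfl)))))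

end Cfsg.Agent.H90.S2Fi24
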