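import Cfsg.Agent.H90.S2Fi24.Data

/-! Check (generated, owner: helper90). -/

set_option autoImplicit false
set_option maxRecDepth 1000000

namespace Cfsg.Agent.H90.S2Fi24

open Cfsg.Agent.CosetEnum Cfsg.Agent.H90.Sift Cfsg.Agent.H90.Sift2

theorem n120 : allR (newC P Q wy 4 3 1) 101640 847 = true := by decide +kernel

theorem n121 : allR (newC P Q wy 4 3 1) 102487 847 = true := by decide +kernel

theorem n122 : allR (newC P Q wy 4 3 1) 103334 847 = true := by decide +kernel

theorem n123 : allR (newC P Q wy 4 3 1) 104181 847 = true := by decide +kernel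

theorem n124 : allR (newC P Q wy 4 3 1) 105028 847 = true := by decide +kernel

theorem n125 : allR (newC P Q wy 4 3 1) 105875 847 = true := by decide +kernel

theorem n126 : allR (newC P Q wy 4 3 1) 106722 847 = true := by decide +kernel

theorem n127 : allR (newC P Q wy 4 3 1) 107569 847 = true := by decide +kernel

theorem n128 : allR (newC P Q wy 4 3 1) 108416 847 = true := by decide +kernel

theorem n129 : allR (newC P Q wy 4 3 1) 109263 847 = true := by decide +kernel

theorem nf12 : CovI (newC P Q wy 4 3 1) 101640 110110 := (.app (.app (.app (.one n120 rfl) (.one n121 rfl)) (.app (.one n122 rfl) (.app (.one n123 rfl) (.one n124 rfl)))) (.app (.app (.one n125 rfl) (.one n126 rfl)) (.app (.one n127 rfl) (.app (.one n128 rfl) (.one n129 rfl)))))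

end Cfsg.Agent.H90.S2Fi24
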