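import Cfsg.Agent.H90.S2Fi24.Data

/-! Check (generated, owner: helper90). -/

set_option autoImplicit false
set_option maxRecDepth 1000000

namespace Cfsg.Agent.H90.S2Fi24

open Cfsg.Agent.CosetEnum Cfsg.Agent.H90.Sift Cfsg.Agent.H90.Sift2

theorem n130 : allR (newC P Q wy 4 3 1) 110110 847 = true := by decide +kernel

theorem n131 : allR (newC P Q wy 4 3 1) 110957 847 = true := by decide +kernel

theorem n132 : allR (newC P Q wy 4 3 1) 111804 847 = true := by decide +kernel

theorem n133 : allR (newC P Q wy 4 3 1) 112651 847 = true := by decide +kernel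

theorem n134 : allR (newC P Q wy 4 3 1) 113498 847 = true := by decide +kernel

theorem n135 : allR (newC P Q wy 4 3 1) 114345 847 = true := by decide +kernel

theorem n136 : allR (newC P Q wy 4 3 1) 115192 847 = true := by decide +kernel

theorem n137 : allR (newC P Q wy 4 3 1) 116039 847 = true := by decide +kernel

theorem n138 : allR (newC P Q wy 4 3 1) 116886 847 = true := by decide +kernel

theorem n139 : allR (newC P Q wy 4 3 1) 117733 847 = true := by decide +kernel

theorem nf13 : CovI (newC P Q wy 4 3 1) 110110 118580 := (.app (.app (.app (.one n130 rfl) (.one n131 rfl)) (.app (.one n132 rfl) (.app (.one n133 rfl) (.one n134 rfl)))) (.app (.app (.one n135 rfl) (.one n136 rfl)) (.app (.one n137 rfl) (.app (.one n138 rfl) (.one n139 rfl)))))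

end Cfsg.Agent.H90.S2Fi24
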