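import Cfsg.Agent.H90.S2Fi24.Data

/-! Check (generated, owner: helper90). -/

set_option autoImplicit false
set_option maxRecDepth 1000000

namespace Cfsg.Agent.H90.S2Fi24

open Cfsg.Agent.CosetEnum Cfsg.Agent.H90.Sift Cfsg.Agent.H90.Sift2

theorem n140 : allR (newC P Q wy 4 3 1) 118580 847 = true := by decide +kernel

theorem n141 : allR (newC P Q wy 4 3 1) 119427 847 = true := by decide +kernel

theorem n142 : allR (newC P Q wy 4 3 1) 120274 847 = true := by decide +kernel

theorem n143 : allR (newC P Q wy 4 3 1) 121121 847 = true := by decide +kernel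

theorem n144 : allR (newC P Q wy 4 3 1) 121968 847 = true := by decide +kernel

theorem n145 : allR (newC P Q wy 4 3 1) 122815 847 = true := by decide +kernel

theorem n146 : allR (newC P Q wy 4 3 1) 123662 847 = true := by decide +kernel

theorem n147 : allR (newC P Q wy 4 3 1) 124509 847 = true := by decide +kernel

theorem n148 : allR (newC P Q wy 4 3 1) 125356 847 = true := by decide +kernel

theorem n149 : allR (newC P Q wy 4 3 1) 126203 847 = true := by decide +kernel

theorem nf14 : CovI (newC P Q wy 4 3 1) 118580 127050 := (.app (.app (.app (.one n140 rfl) (.one n141 rfl)) (.app (.one n142 rfl) (.app (.one n143 rfl) (.one n144 rfl)))) (.app (.app (.one n145 rfl) (.one n146 rfl)) (.app (.one n147 rfl) (.app (.one n148 rfl) (.one n149 rfl)))))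

end Cfsg.Agent.H90.S2Fi24
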