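import Cfsg.Agent.H90.S2Fi24.Data

/-! Check (generated, owner: helper90). -/

set_option autoImplicit false
set_option maxRecDepth 1000000

namespace Cfsg.Agent.H90.S2Fi24

open Cfsg.Agent.CosetEnum Cfsg.Agent.H90.Sift Cfsg.Agent.H90.Sift2

theorem n150 : allR (newC P Q wy 4 3 1) 127050 847 = true := by decide +kernel

theorem n151 : allR (newC P Q wy 4 3 1) 127897 847 = true := by decide +kernel

theorem n152 : allR (newC P Q wy 4 3 1) 128744 847 = true := by decide +kernel

theorem n153 : allR (newC P Q wy 4 3 1) 129591 847 = true := by decide +kernel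

theorem n154 : allR (newC P Q wy 4 3 1) 130438 847 = true := by decide +kernel

theorem n155 : allR (newC P Q wy 4 3 1) 131285 847 = true := by decide +kernel

theorem n156 : allR (newC P Q wy 4 3 1) 132132 847 = true := by decide +kernel

theorem n157 : allR (newC P Q wy 4 3 1) 132979 847 = true := by decide +kernel

theorem n158 : allR (newC P Q wy 4 3 1) 133826 847 = true := by decide +kernel

theorem n159 : allR (newC P Q wy 4 3 1) 134673 847 = true := by decide +kernel

theorem nf15 : CovI (newC P Q wy 4 3 1) 127050 135520 := (.app (.app (.app (.one n150 rfl) (.one n151 rfl)) (.app (.one n152 rfl) (.app (.one n153 rfl) (.one n154 rfl)))) (.app (.app (.one n155 rfl) (.one n156 rfl)) (.app (.one n157 rfl) (.app (.one n158 rfl) (.one n159 rfl)))))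

end Cfsg.Agent.H90.S2Fi24
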