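import Cfsg.Agent.H90.S2Fi24.Data

/-! Check (generated, owner: helper90). -/

set_option autoImplicit false
set_option maxRecDepth 1000000

namespace Cfsg.Agent.H90.S2Fi24

open Cfsg.Agent.CosetEnum Cfsg.Agent.H90.Sift Cfsg.Agent.H90.Sift2

theorem n160 : allR (newC P Q wy 4 3 1) 135520 847 = true := by decide +kernel

theorem n161 : allR (newC P Q wy 4 3 1) 136367 847 = true := by decide +kernel

theorem n162 : allR (newC P Q wy 4 3 1) 137214 847 = true := by decide +kernel

theorem n163 : allR (newC P Q wy 4 3 1) 138061 847 = true := by decide +kernel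

theorem n164 : allR (newC P Q wy 4 3 1) 138908 847 = true := by decide +kernel

theorem n165 : allR (newC P Q wy 4 3 1) 139755 847 = true := by decide +kernel

theorem n166 : allR (newC P Q wy 4 3 1) 140602 847 = true := by decide +kernel

theorem n167 : allR (newC P Q wy 4 3 1) 141449 847 = true := by decide +kernel

theorem n168 : allR (newC P Q wy 4 3 1) 142296 847 = true := by decide +kernel

theorem n169 : allR (newC P Q wy 4 3 1) 143143 847 = true := by decide +kernel

theorem nf16 : CovI (newC P Q wy 4 3 1) 135520 143990 := (.app (.app (.app (.one n160 rfl) (.one n161 rfl)) (.app (.one n162 rfl) (.app (.one n163 rfl) (.one n164 rfl)))) (.app (.app (.one n165 rfl) (.one n166 rfl)) (.app (.one n167 rfl) (.app (.one n168 rfl) (.one n169 rfl)))))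

end Cfsg.Agent.H90.S2Fi24
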