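import Cfsg.Agent.H90.S2Fi24.Data

/-! Check (generated, owner: helper90). -/

set_option autoImplicit false
set_option maxRecDepth 1000000

namespace Cfsg.Agent.H90.S2Fi24

open Cfsg.Agent.CosetEnum Cfsg.Agent.H90.Sift Cfsg.Agent.H90.Sift2

theorem n170 : allR (newC P Q wy 4 3 1) 143990 847 = true := by decide +kernel

theorem n171 : allR (newC P Q wy 4 3 1) 144837 847 = true := by decide +kernel

theorem n172 : allR (newC P Q wy 4 3 1) 145684 847 = true := by decide +kernel

theorem n173 : allR (newC P Q wy 4 3 1) 146531 847 = true := by decide +kernel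

theorem n174 : allR (newC P Q wy 4 3 1) 147378 847 = true := by decide +kernel

theorem n175 : allR (newC P Q wy 4 3 1) 148225 847 = true := by decide +kernel

theorem n176 : allR (newC P Q wy 4 3 1) 149072 847 = true := by decide +kernel

theorem n177 : allR (newC P Q wy 4 3 1) 149919 847 = true := by decide +kernel

theorem n178 : allR (newC P Q wy 4 3 1) 150766 847 = true := by decide +kernel

theorem n179 : allR (newC P Q wy 4 3 1) 151613 847 = true := by decide +kernel

theorem nf17 : CovI (newC P Q wy 4 3 1) 143990 152460 := (.app (.app (.app (.one n170 rfl) (.one n171 rfl)) (.app (.one n172 rfl) (.app (.one n173 rfl) (.one n174 rfl)))) (.app (.app (.one n175 rfl) (.one n176 rfl)) (.app (.one n177 rfl) (.app (.one n178 rfl) (.one n179 rfl)))))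

end Cfsg.Agent.H90.S2Fi24
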