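import Cfsg.Agent.H90.S2Fi24.Data

/-! Check (generated, owner: helper90). -/

set_option autoImplicit false
set_option maxRecDepth 1000000

namespace Cfsg.Agent.H90.S2Fi24

open Cfsg.Agent.CosetEnum Cfsg.Agent.H90.Sift Cfsg.Agent.H90.Sift2

theorem n180 : allR (newC P Q wy 4 3 1) 152460 847 = true := by decide +kernel

theorem n181 : allR (newC P Q wy 4 3 1) 153307 847 = true := by decide +kernel

theorem n182 : allR (newC P Q wy 4 3 1) 154154 847 = true := by decide +kernel

theorem n183 : allR (newC P Q wy 4 3 1) 155001 847 = true := by decide +kernel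

theorem n184 : allR (newC P Q wy 4 3 1) 155848 847 = true := by decide +kernel

theorem n185 : allR (newC P Q wy 4 3 1) 156695 847 = true := by decide +kernel

theorem n186 : allR (newC P Q wy 4 3 1) 157542 847 = true := by decide +kernel

theorem n187 : allR (newC P Q wy 4 3 1) 158389 847 = true := by decide +kernel

theorem n188 : allR (newC P Q wy 4 3 1) 159236 847 = true := by decide +kernel

theorem n189 : allR (newC P Q wy 4 3 1) 160083 847 = true := by decide +kernel

theorem nf18 : CovI (newC P Q wy 4 3 1) 152460 160930 := (.app (.app (.app (.one n180 rfl) (.one n181 rfl)) (.app (.one n182 rfl) (.app (.one n183 rfl) (.one n184 rfl)))) (.app (.app (.one n185 rfl) (.one n186 rfl)) (.app (.one n187 rfl) (.app (.one n188 rfl) (.one n189 rfl)))))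

end Cfsg.Agent.H90.S2Fi24
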