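import Cfsg.Agent.H90.S2Fi24.Data

/-! Check (generated, owner: helper90). -/

set_option autoImplicit false
set_option maxRecDepth 1000000

namespace Cfsg.Agent.H90.S2Fi24

open Cfsg.Agent.CosetEnum Cfsg.Agent.H90.Sift Cfsg.Agent.H90.Sift2

theorem n190 : allR (newC P Q wy 4 3 1) 160930 847 = true := by decide +kernel

theorem n191 : allR (newC P Q wy 4 3 1) 161777 847 = true := by decide +kernel

theorem n192 : allR (newC P Q wy 4 3 1) 162624 847 = true := by decide +kernel

theorem n193 : allR (newC P Q wy 4 3 1) 163471 847 = true := by decide +kernel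

theorem n194 : allR (newC P Q wy 4 3 1) 164318 847 = true := by decide +kernel

theorem n195 : allR (newC P Q wy 4 3 1) 165165 847 = true := by decide +kernel

theorem n196 : allR (newC P Q wy 4 3 1) 166012 847 = true := by decide +kernel

theorem n197 : allR (newC P Q wy 4 3 1) 166859 847 = true := by decide +kernel

theorem n198 : allR (newC P Q wy 4 3 1) 167706 847 = true := by decide +kernel

theorem n199 : allR (newC P Q wy 4 3 1) 168553 847 = true := by decide +kernel

theorem nf19 : CovI (newC P Q wy 4 3 1) 160930 169400 := (.app (.app (.app (.one n190 rfl) (.one n191 rfl)) (.app (.one n192 rfl) (.app (.one n193 rfl) (.one n194 rfl)))) (.app (.app (.one n195 rfl) (.one n196 rfl)) (.app (.one n197 rfl) (.app (.one n198 rfl) (.one n199 rfl)))))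

end Cfsg.Agent.H90.S2Fi24
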