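import Cfsg.Agent.H90.S2Fi24.Data

/-! Check (generated, owner: helper90). -/

set_option autoImplicit false
set_option maxRecDepth 1000000

namespace Cfsg.Agent.H90.S2Fi24

open Cfsg.Agent.CosetEnum Cfsg.Agent.H90.Sift Cfsg.Agent.H90.Sift2

theorem n20 : allR (newC P Q wy 4 3 1) 16940 847 = true := by decide +kernel

theorem n21 : allR (newC P Q wy 4 3 1) 17787 847 = true := by decide +kernel

theorem n22 : allR (newC P Q wy 4 3 1) 18634 847 = true := by decide +kernel

theorem n23 : allR (newC P Q wy 4 3 1) 19481 847 = true := by decide +kernel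

theorem n24 : allR (newC P Q wy 4 3 1) 20328 847 = true := by decide +kernel

theorem n25 : allR (newC P Q wy 4 3 1) 21175 847 = true := by decide +kernel

theorem n26 : allR (newC P Q wy 4 3 1) 22022 847 = true := by decide +kernel

theorem n27 : allR (newC P Q wy 4 3 1) 22869 847 = true := by decide +kernel

theorem n28 : allR (newC P Q wy 4 3 1) 23716 847 = true := by decide +kernel

theorem n29 : allR (newC P Q wy 4 3 1) 24563 847 = true := by decide +kernel

theorem nf2 : CovI (newC P Q wy 4 3 1) 16940 25410 := (.app (.app (.app (.one n20 rfl) (.one n21 rfl)) (.app (.one n22 rfl) (.app (.one n23 rfl) (.one n24 rfl)))) (.app (.app (.one n25 rfl) (.one n26 rfl)) (.app (.one n27 rfl) (.app (.one n28 rfl) (.one n29 rfl)))))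

end Cfsg.Agent.H90.S2Fi24
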