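import Cfsg.Agent.H90.S2Fi24.Data

/-! Check (generated, owner: helper90). -/

set_option autoImplicit false
set_option maxRecDepth 1000000

namespace Cfsg.Agent.H90.S2Fi24

open Cfsg.Agent.CosetEnum Cfsg.Agent.H90.Sift Cfsg.Agent.H90.Sift2

theorem n200 : allR (newC P Q wy 4 3 1) 169400 847 = true := by decide +kernel

theorem n201 : allR (newC P Q wy 4 3 1) 170247 847 = true := by decide +kernel

theorem n202 : allR (newC P Q wy 4 3 1) 171094 847 = true := by decide +kernel

theorem n203 : allR (newC P Q wy 4 3 1) 171941 847 = true := by decide +kernel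

theorem n204 : allR (newC P Q wy 4 3 1) 172788 847 = true := by decide +kernel

theorem n205 : allR (newC P Q wy 4 3 1) 173635 847 = true := by decide +kernel

theorem n206 : allR (newC P Q wy 4 3 1) 174482 847 = true := by decide +kernel

theorem n207 : allR (newC P Q wy 4 3 1) 175329 847 = true := by decide +kernel

theorem n208 : allR (newC P Q wy 4 3 1) 176176 847 = true := by decide +kernel

theorem n209 : allR (newC P Q wy 4 3 1) 177023 847 = true := by decide +kernel

theorem nf20 : CovI (newC P Q wy 4 3 1) 169400 177870 := (.app (.app (.app (.one n200 rfl) (.one n201 rfl)) (.app (.one n202 rfl) (.app (.one n203 rfl) (.one n204 rfl)))) (.app (.app (.one n205 rfl) (.one n206 rfl)) (.app (.one n207 rfl) (.app (.one n208 rfl) (.one n209 rfl)))))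

end Cfsg.Agent.H90.S2Fi24
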