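import Cfsg.Agent.H90.S2Fi24.Data

/-! Check (generated, owner: helper90). -/

set_option autoImplicit false
set_option maxRecDepth 1000000

namespace Cfsg.Agent.H90.S2Fi24

open Cfsg.Agent.CosetEnum Cfsg.Agent.H90.Sift Cfsg.Agent.H90.Sift2

theorem n220 : allR (newC P Q wy 4 3 1) 186340 847 = true := by decide +kernel

theorem n221 : allR (newC P Q wy 4 3 1) 187187 847 = true := by decide +kernel

theorem n222 : allR (newC P Q wy 4 3 1) 188034 847 = true := by decide +kernel

theorem n223 : allR (newC P Q wy 4 3 1) 188881 847 = true := by decide +kernel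

theorem n224 : allR (newC P Q wy 4 3 1) 189728 847 = true := by decide +kernel

theorem n225 : allR (newC P Q wy 4 3 1) 190575 847 = true := by decide +kernel

theorem n226 : allR (newC P Q wy 4 3 1) 191422 847 = true := by decide +kernel

theorem n227 : allR (newC P Q wy 4 3 1) 192269 847 = true := by decide +kernel

theorem n228 : allR (newC P Q wy 4 3 1) 193116 847 = true := by decide +kernel

theorem n229 : allR (newC P Q wy 4 3 1) 193963 847 = true := by decide +kernel

theorem nf22 : CovI (newC P Q wy 4 3 1) 186340 194810 := (.app (.app (.app (.one n220 rfl) (.one n221 rfl)) (.app (.one n222 rfl) (.app (.one n223 rfl) (.one n224 rfl)))) (.app (.app (.one n225 rfl) (.one n226 rfl)) (.app (.one n227 rfl) (.app (.one n228 rfl) (.one n229 rfl)))))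

end Cfsg.Agent.H90.S2Fi24
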