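import Cfsg.Agent.H90.S2Fi24.Data

/-! Check (generated, owner: helper90). -/

set_option autoImplicit false
set_option maxRecDepth 1000000

namespace Cfsg.Agent.H90.S2Fi24

open Cfsg.Agent.CosetEnum Cfsg.Agent.H90.Sift Cfsg.Agent.H90.Sift2

theorem n230 : allR (newC P Q wy 4 3 1) 194810 847 = true := by decide +kernel

theorem n231 : allR (newC P Q wy 4 3 1) 195657 847 = true := by decide +kernel

theorem n232 : allR (newC P Q wy 4 3 1) 196504 847 = true := by decide +kernel

theorem n233 : allR (newC P Q wy 4 3 1) 197351 847 = true := by decide +kernel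

theorem n234 : allR (newC P Q wy 4 3 1) 198198 847 = true := by decide +kernel

theorem n235 : allR (newC P Q wy 4 3 1) 199045 847 = true := by decide +kernel

theorem n236 : allR (newC P Q wy 4 3 1) 199892 847 = true := by decide +kernel

theorem n237 : allR (newC P Q wy 4 3 1) 200739 847 = true := by decide +kernel

theorem n238 : allR (newC P Q wy 4 3 1) 201586 847 = true := by decide +kernel

theorem n239 : allR (newC P Q wy 4 3 1) 202433 847 = true := by decide +kernel

theorem nf23 : CovI (newC P Q wy 4 3 1) 194810 203280 := (.app (.app (.app (.one n230 rfl) (.one n231 rfl)) (.app (.one n232 rfl) (.app (.one n233 rfl) (.one n234 rfl)))) (.app (.app (.one n235 rfl) (.one n236 rfl)) (.app (.one n237 rfl) (.app (.one n238 rfl) (.one n239 rfl)))))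

end Cfsg.Agent.H90.S2Fi24
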