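import Cfsg.Agent.H90.S2Fi24.Data

/-! Check (generated, owner: helper90). -/

set_option autoImplicit false
set_option maxRecDepth 1000000

namespace Cfsg.Agent.H90.S2Fi24

open Cfsg.Agent.CosetEnum Cfsg.Agent.H90.Sift Cfsg.Agent.H90.Sift2

theorem n240 : allR (newC P Q wy 4 3 1) 203280 847 = true := by decide +kernel

theorem n241 : allR (newC P Q wy 4 3 1) 204127 847 = true := by decide +kernel

theorem n242 : allR (newC P Q wy 4 3 1) 204974 847 = true := by decide +kernel

theorem n243 : allR (newC P Q wy 4 3 1) 205821 847 = true := by decide +kernel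

theorem n244 : allR (newC P Q wy 4 3 1) 206668 847 = true := by decide +kernel

theorem n245 : allR (newC P Q wy 4 3 1) 207515 847 = true := by decide +kernel

theorem n246 : allR (newC P Q wy 4 3 1) 208362 847 = true := by decide +kernel

theorem n247 : allR (newC P Q wy 4 3 1) 209209 847 = true := by decide +kernel

theorem n248 : allR (newC P Q wy 4 3 1) 210056 847 = true := by decide +kernel

theorem n249 : allR (newC P Q wy 4 3 1) 210903 847 = true := by decide +kernel

theorem nf24 : CovI (newC P Q wy 4 3 1) 203280 211750 := (.app (.app (.app (.one n240 rfl) (.one n241 rfl)) (.app (.one n242 rfl) (.app (.one n243 rfl) (.one n244 rfl)))) (.app (.app (.one n245 rfl) (.one n246 rfl)) (.app (.one n247 rfl) (.app (.one n248 rfl) (.one n249 rfl)))))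

end Cfsg.Agent.H90.S2Fi24
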