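import Cfsg.Agent.H90.S2Fi24.Data

/-! Check (generated, owner: helper90). -/

set_option autoImplicit false
set_option maxRecDepth 1000000

namespace Cfsg.Agent.H90.S2Fi24

open Cfsg.Agent.CosetEnum Cfsg.Agent.H90.Sift Cfsg.Agent.H90.Sift2

theorem n250 : allR (newC P Q wy 4 3 1) 211750 847 = true := by decide +kernel

theorem n251 : allR (newC P Q wy 4 3 1) 212597 847 = true := by decide +kernel

theorem n252 : allR (newC P Q wy 4 3 1) 213444 847 = true := by decide +kernel

theorem n253 : allR (newC P Q wy 4 3 1) 214291 847 = true := by decide +kernel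

theorem n254 : allR (newC P Q wy 4 3 1) 215138 847 = true := by decide +kernel

theorem n255 : allR (newC P Q wy 4 3 1) 215985 847 = true := by decide +kernel

theorem n256 : allR (newC P Q wy 4 3 1) 216832 847 = true := by decide +kernel

theorem n257 : allR (newC P Q wy 4 3 1) 217679 847 = true := by decide +kernel

theorem n258 : allR (newC P Q wy 4 3 1) 218526 847 = true := by decide +kernel

theorem n259 : allR (newC P Q wy 4 3 1) 219373 847 = true := by decide +kernel

theorem nf25 : CovI (newC P Q wy 4 3 1) 211750 220220 := (.app (.app (.app (.one n250 rfl) (.one n251 rfl)) (.app (.one n252 rfl) (.app (.one n253 rfl) (.one n254 rfl)))) (.app (.app (.one n255 rfl) (.one n256 rfl)) (.app (.one n257 rfl) (.app (.one n258 rfl) (.one n259 rfl)))))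

end Cfsg.Agent.H90.S2Fi24
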