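import Cfsg.Agent.H90.S2Fi24.Data

/-! Check (generated, owner: helper90). -/

set_option autoImplicit false
set_option maxRecDepth 1000000

namespace Cfsg.Agent.H90.S2Fi24

open Cfsg.Agent.CosetEnum Cfsg.Agent.H90.Sift Cfsg.Agent.H90.Sift2

theorem n260 : allR (newC P Q wy 4 3 1) 220220 847 = true := by decide +kernel

theorem n261 : allR (newC P Q wy 4 3 1) 221067 847 = true := by decide +kernel

theorem n262 : allR (newC P Q wy 4 3 1) 221914 847 = true := by decide +kernel

theorem n263 : allR (newC P Q wy 4 3 1) 222761 847 = true := by decide +kernel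

theorem n264 : allR (newC P Q wy 4 3 1) 223608 847 = true := by decide +kernel

theorem n265 : allR (newC P Q wy 4 3 1) 224455 847 = true := by decide +kernel

theorem n266 : allR (newC P Q wy 4 3 1) 225302 847 = true := by decide +kernel

theorem n267 : allR (newC P Q wy 4 3 1) 226149 847 = true := by decide +kernel

theorem n268 : allR (newC P Q wy 4 3 1) 226996 847 = true := by decide +kernel

theorem n269 : allR (newC P Q wy 4 3 1) 227843 847 = true := by decide +kernel

theorem nf26 : CovI (newC P Q wy 4 3 1) 220220 228690 := (.app (.app (.app (.one n260 rfl) (.one n261 rfl)) (.app (.one n262 rfl) (.app (.one n263 rfl) (.one n264 rfl)))) (.app (.app (.one n265 rfl) (.one n266 rfl)) (.app (.one n267 rfl) (.app (.one n268 rfl) (.one n269 rfl)))))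

end Cfsg.Agent.H90.S2Fi24
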