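import Cfsg.Agent.H90.S2Fi24.Data

/-! Check (generated, owner: helper90). -/

set_option autoImplicit false
set_option maxRecDepth 1000000

namespace Cfsg.Agent.H90.S2Fi24

open Cfsg.Agent.CosetEnum Cfsg.Agent.H90.Sift Cfsg.Agent.H90.Sift2

theorem n270 : allR (newC P Q wy 4 3 1) 228690 847 = true := by decide +kernel

theorem n271 : allR (newC P Q wy 4 3 1) 229537 847 = true := by decide +kernel

theorem n272 : allR (newC P Q wy 4 3 1) 230384 847 = true := by decide +kernel

theorem n273 : allR (newC P Q wy 4 3 1) 231231 847 = true := by decide +kernel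

theorem n274 : allR (newC P Q wy 4 3 1) 232078 847 = true := by decide +kernel

theorem n275 : allR (newC P Q wy 4 3 1) 232925 847 = true := by decide +kernel

theorem n276 : allR (newC P Q wy 4 3 1) 233772 847 = true := by decide +kernel

theorem n277 : allR (newC P Q wy 4 3 1) 234619 847 = true := by decide +kernel

theorem n278 : allR (newC P Q wy 4 3 1) 235466 847 = true := by decide +kernel

theorem n279 : allR (newC P Q wy 4 3 1) 236313 847 = true := by decide +kernel

theorem nf27 : CovI (newC P Q wy 4 3 1) 228690 237160 := (.app (.app (.app (.one n270 rfl) (.one n271 rfl)) (.app (.one n272 rfl) (.app (.one n273 rfl) (.one n274 rfl)))) (.app (.app (.one n275 rfl) (.one n276 rfl)) (.app (.one n277 rfl) (.app (.one n278 rfl) (.one n279 rfl)))))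

end Cfsg.Agent.H90.S2Fi24
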