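import Cfsg.Agent.H90.S2Fi24.Data

/-! Check (generated, owner: helper90). -/

set_option autoImplicit false
set_option maxRecDepth 1000000

namespace Cfsg.Agent.H90.S2Fi24

open Cfsg.Agent.CosetEnum Cfsg.Agent.H90.Sift Cfsg.Agent.H90.Sift2

theorem n280 : allR (newC P Q wy 4 3 1) 237160 847 = true := by decide +kernel

theorem n281 : allR (newC P Q wy 4 3 1) 238007 847 = true := by decide +kernel

theorem n282 : allR (newC P Q wy 4 3 1) 238854 847 = true := by decide +kernel

theorem n283 : allR (newC P Q wy 4 3 1) 239701 847 = true := by decide +kernel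

theorem n284 : allR (newC P Q wy 4 3 1) 240548 847 = true := by decide +kernel

theorem n285 : allR (newC P Q wy 4 3 1) 241395 847 = true := by decide +kernel

theorem n286 : allR (newC P Q wy 4 3 1) 242242 847 = true := by decide +kernel

theorem n287 : allR (newC P Q wy 4 3 1) 243089 847 = true := by decide +kernel

theorem n288 : allR (newC P Q wy 4 3 1) 243936 847 = true := by decide +kernel

theorem n289 : allR (newC P Q wy 4 3 1) 244783 847 = true := by decide +kernel

theorem nf28 : CovI (newC P Q wy 4 3 1) 237160 245630 := (.app (.app (.app (.one n280 rfl) (.one n281 rfl)) (.app (.one n282 rfl) (.app (.one n283 rfl) (.one n284 rfl)))) (.app (.app (.one n285 rfl) (.one n286 rfl)) (.app (.one n287 rfl) (.app (.one n288 rfl) (.one n289 rfl)))))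

end Cfsg.Agent.H90.S2Fi24
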