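import Cfsg.Agent.H90.S2Fi24.Data

/-! Check (generated, owner: helper90). -/

set_option autoImplicit false
set_option maxRecDepth 1000000

namespace Cfsg.Agent.H90.S2Fi24

open Cfsg.Agent.CosetEnum Cfsg.Agent.H90.Sift Cfsg.Agent.H90.Sift2

theorem n290 : allR (newC P Q wy 4 3 1) 245630 847 = true := by decide +kernel

theorem n291 : allR (newC P Q wy 4 3 1) 246477 847 = true := by decide +kernel

theorem n292 : allR (newC P Q wy 4 3 1) 247324 847 = true := by decide +kernel

theorem n293 : allR (newC P Q wy 4 3 1) 248171 847 = true := by decide +kernel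

theorem n294 : allR (newC P Q wy 4 3 1) 249018 847 = true := by decide +kernel

theorem n295 : allR (newC P Q wy 4 3 1) 249865 847 = true := by decide +kernel

theorem n296 : allR (newC P Q wy 4 3 1) 250712 847 = true := by decide +kernel

theorem n297 : allR (newC P Q wy 4 3 1) 251559 847 = true := by decide +kernel

theorem n298 : allR (newC P Q wy 4 3 1) 252406 847 = true := by decide +kernel

theorem n299 : allR (newC P Q wy 4 3 1) 253253 847 = true := by decide +kernel

theorem nf29 : CovI (newC P Q wy 4 3 1) 245630 254100 := (.app (.app (.app (.one n290 rfl) (.one n291 rfl)) (.app (.one n292 rfl) (.app (.one n293 rfl) (.one n294 rfl)))) (.app (.app (.one n295 rfl) (.one n296 rfl)) (.app (.one n297 rfl) (.app (.one n298 rfl) (.one n299 rfl)))))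

end Cfsg.Agent.H90.S2Fi24
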