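import Cfsg.Agent.H90.S2Fi24.Data

/-! Check (generated, owner: helper90). -/

set_option autoImplicit false
set_option maxRecDepth 1000000

namespace Cfsg.Agent.H90.S2Fi24

open Cfsg.Agent.CosetEnum Cfsg.Agent.H90.Sift Cfsg.Agent.H90.Sift2

theorem n30 : allR (newC P Q wy 4 3 1) 25410 847 = true := by decide +kernel

theorem n31 : allR (newC P Q wy 4 3 1) 26257 847 = true := by decide +kernel

theorem n32 : allR (newC P Q wy 4 3 1) 27104 847 = true := by decide +kernel

theorem n33 : allR (newC P Q wy 4 3 1) 27951 847 = true := by decide +kernel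

theorem n34 : allR (newC P Q wy 4 3 1) 28798 847 = true := by decide +kernel

theorem n35 : allR (newC P Q wy 4 3 1) 29645 847 = true := by decide +kernel

theorem n36 : allR (newC P Q wy 4 3 1) 30492 847 = true := by decide +kernel

theorem n37 : allR (newC P Q wy 4 3 1) 31339 847 = true := by decide +kernel

theorem n38 : allR (newC P Q wy 4 3 1) 32186 847 = true := by decide +kernel

theorem n39 : allR (newC P Q wy 4 3 1) 33033 847 = true := by decide +kernel

theorem nf3 : CovI (newC P Q wy 4 3 1) 25410 33880 := (.app (.app (.app (.one n30 rfl) (.one n31 rfl)) (.app (.one n32 rfl) (.app (.one n33 rfl) (.one n34 rfl)))) (.app (.app (.one n35 rfl) (.one n36 rfl)) (.app (.one n37 rfl) (.app (.one n38 rfl) (.one n39 rfl)))))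

end Cfsg.Agent.H90.S2Fi24
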