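import Cfsg.Agent.H90.S2Fi24.Data

/-! Check (generated, owner: helper90). -/

set_option autoImplicit false
set_option maxRecDepth 1000000

namespace Cfsg.Agent.H90.S2Fi24

open Cfsg.Agent.CosetEnum Cfsg.Agent.H90.Sift Cfsg.Agent.H90.Sift2

theorem n300 : allR (newC P Q wy 4 3 1) 254100 847 = true := by decide +kernel

theorem n301 : allR (newC P Q wy 4 3 1) 254947 847 = true := by decide +kernel

theorem n302 : allR (newC P Q wy 4 3 1) 255794 847 = true := by decide +kernel

theorem n303 : allR (newC P Q wy 4 3 1) 256641 847 = true := by decide +kernel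

theorem n304 : allR (newC P Q wy 4 3 1) 257488 847 = true := by decide +kernel

theorem n305 : allR (newC P Q wy 4 3 1) 258335 847 = true := by decide +kernel

theorem n306 : allR (newC P Q wy 4 3 1) 259182 847 = true := by decide +kernel

theorem n307 : allR (newC P Q wy 4 3 1) 260029 847 = true := by decide +kernel

theorem n308 : allR (newC P Q wy 4 3 1) 260876 847 = true := by decide +kernel

theorem n309 : allR (newC P Q wy 4 3 1) 261723 847 = true := by decide +kernel

theorem nf30 : CovI (newC P Q wy 4 3 1) 254100 262570 := (.app (.app (.app (.one n300 rfl) (.one n301 rfl)) (.app (.one n302 rfl) (.app (.one n303 rfl) (.one n304 rfl)))) (.app (.app (.one n305 rfl) (.one n306 rfl)) (.app (.one n307 rfl) (.app (.one n308 rfl) (.one n309 rfl)))))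

end Cfsg.Agent.H90.S2Fi24
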