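import Cfsg.Agent.H90.S2Fi24.Data

/-! Check (generated, owner: helper90). -/

set_option autoImplicit false
set_option maxRecDepth 1000000

namespace Cfsg.Agent.H90.S2Fi24

open Cfsg.Agent.CosetEnum Cfsg.Agent.H90.Sift Cfsg.Agent.H90.Sift2

theorem n310 : allR (newC P Q wy 4 3 1) 262570 847 = true := by decide +kernel

theorem n311 : allR (newC P Q wy 4 3 1) 263417 847 = true := by decide +kernel

theorem n312 : allR (newC P Q wy 4 3 1) 264264 847 = true := by decide +kernel

theorem n313 : allR (newC P Q wy 4 3 1) 265111 847 = true := by decide +kernel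

theorem n314 : allR (newC P Q wy 4 3 1) 265958 847 = true := by decide +kernel

theorem n315 : allR (newC P Q wy 4 3 1) 266805 847 = true := by decide +kernel

theorem n316 : allR (newC P Q wy 4 3 1) 267652 847 = true := by decide +kernel

theorem n317 : allR (newC P Q wy 4 3 1) 268499 847 = true := by decide +kernel

theorem n318 : allR (newC P Q wy 4 3 1) 269346 847 = true := by decide +kernel

theorem n319 : allR (newC P Q wy 4 3 1) 270193 847 = true := by decide +kernel

theorem nf31 : CovI (newC P Q wy 4 3 1) 262570 271040 := (.app (.app (.app (.one n310 rfl) (.one n311 rfl)) (.app (.one n312 rfl) (.app (.one n313 rfl) (.one n314 rfl)))) (.app (.app (.one n315 rfl) (.one n316 rfl)) (.app (.one n317 rfl) (.app (.one n318 rfl) (.one n319 rfl)))))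

end Cfsg.Agent.H90.S2Fi24
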