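import Cfsg.Agent.H90.S2Fi24.Data

/-! Check (generated, owner: helper90). -/

set_option autoImplicit false
set_option maxRecDepth 1000000

namespace Cfsg.Agent.H90.S2Fi24

open Cfsg.Agent.CosetEnum Cfsg.Agent.H90.Sift Cfsg.Agent.H90.Sift2

theorem n320 : allR (newC P Q wy 4 3 1) 271040 847 = true := by decide +kernel

theorem n321 : allR (newC P Q wy 4 3 1) 271887 847 = true := by decide +kernel

theorem n322 : allR (newC P Q wy 4 3 1) 272734 847 = true := by decide +kernel

theorem n323 : allR (newC P Q wy 4 3 1) 273581 847 = true := by decide +kernel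

theorem n324 : allR (newC P Q wy 4 3 1) 274428 847 = true := by decide +kernel

theorem n325 : allR (newC P Q wy 4 3 1) 275275 847 = true := by decide +kernel

theorem n326 : allR (newC P Q wy 4 3 1) 276122 847 = true := by decide +kernel

theorem n327 : allR (newC P Q wy 4 3 1) 276969 847 = true := by decide +kernel

theorem n328 : allR (newC P Q wy 4 3 1) 277816 847 = true := by decide +kernel

theorem n329 : allR (newC P Q wy 4 3 1) 278663 847 = true := by decide +kernel

theorem nf32 : CovI (newC P Q wy 4 3 1) 271040 279510 := (.app (.app (.app (.one n320 rfl) (.one n321 rfl)) (.app (.one n322 rfl) (.app (.one n323 rfl) (.one n324 rfl)))) (.app (.app (.one n325 rfl) (.one n326 rfl)) (.app (.one n327 rfl) (.app (.one n328 rfl) (.one n329 rfl)))))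

end Cfsg.Agent.H90.S2Fi24
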