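import Cfsg.Agent.H90.S2Fi24.Data

/-! Check (generated, owner: helper90). -/

set_option autoImplicit false
set_option maxRecDepth 1000000

namespace Cfsg.Agent.H90.S2Fi24

open Cfsg.Agent.CosetEnum Cfsg.Agent.H90.Sift Cfsg.Agent.H90.Sift2

theorem n330 : allR (newC P Q wy 4 3 1) 279510 847 = true := by decide +kernel

theorem n331 : allR (newC P Q wy 4 3 1) 280357 847 = true := by decide +kernel

theorem n332 : allR (newC P Q wy 4 3 1) 281204 847 = true := by decide +kernel

theorem n333 : allR (newC P Q wy 4 3 1) 282051 847 = true := by decide +kernel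

theorem n334 : allR (newC P Q wy 4 3 1) 282898 847 = true := by decide +kernel

theorem n335 : allR (newC P Q wy 4 3 1) 283745 847 = true := by decide +kernel

theorem n336 : allR (newC P Q wy 4 3 1) 284592 847 = true := by decide +kernel

theorem n337 : allR (newC P Q wy 4 3 1) 285439 847 = true := by decide +kernel

theorem n338 : allR (newC P Q wy 4 3 1) 286286 847 = true := by decide +kernel

theorem n339 : allR (newC P Q wy 4 3 1) 287133 847 = true := by decide +kernel

theorem nf33 : CovI (newC P Q wy 4 3 1) 279510 287980 := (.app (.app (.app (.one n330 rfl) (.one n331 rfl)) (.app (.one n332 rfl) (.app (.one n333 rfl) (.one n334 rfl)))) (.app (.app (.one n335 rfl) (.one n336 rfl)) (.app (.one n337 rfl) (.app (.one n338 rfl) (.one n339 rfl)))))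

end Cfsg.Agent.H90.S2Fi24
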