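import Cfsg.Agent.H90.S2Fi24.Data

/-! Check (generated, owner: helper90). -/

set_option autoImplicit false
set_option maxRecDepth 1000000

namespace Cfsg.Agent.H90.S2Fi24

open Cfsg.Agent.CosetEnum Cfsg.Agent.H90.Sift Cfsg.Agent.H90.Sift2

theorem n340 : allR (newC P Q wy 4 3 1) 287980 847 = true := by decide +kernel

theorem n341 : allR (newC P Q wy 4 3 1) 288827 847 = true := by decide +kernel

theorem n342 : allR (newC P Q wy 4 3 1) 289674 847 = true := by decide +kernel

theorem n343 : allR (newC P Q wy 4 3 1) 290521 847 = true := by decide +kernel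

theorem n344 : allR (newC P Q wy 4 3 1) 291368 847 = true := by decide +kernel

theorem n345 : allR (newC P Q wy 4 3 1) 292215 847 = true := by decide +kernel

theorem n346 : allR (newC P Q wy 4 3 1) 293062 847 = true := by decide +kernel

theorem n347 : allR (newC P Q wy 4 3 1) 293909 847 = true := by decide +kernel

theorem n348 : allR (newC P Q wy 4 3 1) 294756 847 = true := by decide +kernel

theorem n349 : allR (newC P Q wy 4 3 1) 295603 847 = true := by decide +kernel

theorem nf34 : CovI (newC P Q wy 4 3 1) 287980 296450 := (.app (.app (.app (.one n340 rfl) (.one n341 rfl)) (.app (.one n342 rfl) (.app (.one n343 rfl) (.one n344 rfl)))) (.app (.app (.one n345 rfl) (.one n346 rfl)) (.app (.one n347 rfl) (.app (.one n348 rfl) (.one n349 rfl)))))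

end Cfsg.Agent.H90.S2Fi24
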