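import Cfsg.Agent.H90.S2Fi24.Data

/-! Check (generated, owner: helper90). -/

set_option autoImplicit false
set_option maxRecDepth 1000000

namespace Cfsg.Agent.H90.S2Fi24

open Cfsg.Agent.CosetEnum Cfsg.Agent.H90.Sift Cfsg.Agent.H90.Sift2

theorem n360 : allR (newC P Q wy 4 3 1) 304920 847 = true := by decide +kernel

theorem n361 : allR (newC P Q wy 4 3 1) 305767 847 = true := by decide +kernel

theorem n362 : allR (newC P Q wy 4 3 1) 306614 322 = true := by decide +kernel

theorem nf36 : CovI (newC P Q wy 4 3 1) 304920 306936 := (.app (.one n360 rfl) (.app (.one n361 rfl) (.one n362 rfl)))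

end Cfsg.Agent.H90.S2Fi24
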