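import Cfsg.Agent.H90.S2Fi24.Data

/-! Check (generated, owner: helper90). -/

set_option autoImplicit false
set_option maxRecDepth 1000000

namespace Cfsg.Agent.H90.S2Fi24

open Cfsg.Agent.CosetEnum Cfsg.Agent.H90.Sift Cfsg.Agent.H90.Sift2

theorem n40 : allR (newC P Q wy 4 3 1) 33880 847 = true := by decide +kernel

theorem n41 : allR (newC P Q wy 4 3 1) 34727 847 = true := by decide +kernel

theorem n42 : allR (newC P Q wy 4 3 1) 35574 847 = true := by decide +kernel

theorem n43 : allR (newC P Q wy 4 3 1) 36421 847 = true := by decide +kernel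

theorem n44 : allR (newC P Q wy 4 3 1) 37268 847 = true := by decide +kernel

theorem n45 : allR (newC P Q wy 4 3 1) 38115 847 = true := by decide +kernel

theorem n46 : allR (newC P Q wy 4 3 1) 38962 847 = true := by decide +kernel

theorem n47 : allR (newC P Q wy 4 3 1) 39809 847 = true := by decide +kernel

theorem n48 : allR (newC P Q wy 4 3 1) 40656 847 = true := by decide +kernel

theorem n49 : allR (newC P Q wy 4 3 1) 41503 847 = true := by decide +kernel

theorem nf4 : CovI (newC P Q wy 4 3 1) 33880 42350 := (.app (.app (.app (.one n40 rfl) (.one n41 rfl)) (.app (.one n42 rfl) (.app (.one n43 rfl) (.one n44 rfl)))) (.app (.app (.one n45 rfl) (.one n46 rfl)) (.app (.one n47 rfl) (.app (.one n48 rfl) (.one n49 rfl)))))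

end Cfsg.Agent.H90.S2Fi24
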