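import Cfsg.Agent.H90.S2Fi24.Data

/-! Check (generated, owner: helper90). -/

set_option autoImplicit false
set_option maxRecDepth 1000000

namespace Cfsg.Agent.H90.S2Fi24

open Cfsg.Agent.CosetEnum Cfsg.Agent.H90.Sift Cfsg.Agent.H90.Sift2

theorem n50 : allR (newC P Q wy 4 3 1) 42350 847 = true := by decide +kernel

theorem n51 : allR (newC P Q wy 4 3 1) 43197 847 = true := by decide +kernel

theorem n52 : allR (newC P Q wy 4 3 1) 44044 847 = true := by decide +kernel

theorem n53 : allR (newC P Q wy 4 3 1) 44891 847 = true := by decide +kernel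

theorem n54 : allR (newC P Q wy 4 3 1) 45738 847 = true := by decide +kernel

theorem n55 : allR (newC P Q wy 4 3 1) 46585 847 = true := by decide +kernel

theorem n56 : allR (newC P Q wy 4 3 1) 47432 847 = true := by decide +kernel

theorem n57 : allR (newC P Q wy 4 3 1) 48279 847 = true := by decide +kernel

theorem n58 : allR (newC P Q wy 4 3 1) 49126 847 = true := by decide +kernel

theorem n59 : allR (newC P Q wy 4 3 1) 49973 847 = true := by decide +kernel

theorem nf5 : CovI (newC P Q wy 4 3 1) 42350 50820 := (.app (.app (.app (.one n50 rfl) (.one n51 rfl)) (.app (.one n52 rfl) (.app (.one n53 rfl) (.one n54 rfl)))) (.app (.app (.one n55 rfl) (.one n56 rfl)) (.app (.one n57 rfl) (.app (.one n58 rfl) (.one n59 rfl)))))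

end Cfsg.Agent.H90.S2Fi24
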