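import Cfsg.Agent.H90.S2Fi24.Data

/-! Check (generated, owner: helper90). -/

set_option autoImplicit false
set_option maxRecDepth 1000000

namespace Cfsg.Agent.H90.S2Fi24

open Cfsg.Agent.CosetEnum Cfsg.Agent.H90.Sift Cfsg.Agent.H90.Sift2

theorem n60 : allR (newC P Q wy 4 3 1) 50820 847 = true := by decide +kernel

theorem n61 : allR (newC P Q wy 4 3 1) 51667 847 = true := by decide +kernel

theorem n62 : allR (newC P Q wy 4 3 1) 52514 847 = true := by decide +kernel

theorem n63 : allR (newC P Q wy 4 3 1) 53361 847 = true := by decide +kernel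

theorem n64 : allR (newC P Q wy 4 3 1) 54208 847 = true := by decide +kernel

theorem n65 : allR (newC P Q wy 4 3 1) 55055 847 = true := by decide +kernel

theorem n66 : allR (newC P Q wy 4 3 1) 55902 847 = true := by decide +kernel

theorem n67 : allR (newC P Q wy 4 3 1) 56749 847 = true := by decide +kernel

theorem n68 : allR (newC P Q wy 4 3 1) 57596 847 = true := by decide +kernel

theorem n69 : allR (newC P Q wy 4 3 1) 58443 847 = true := by decide +kernel

theorem nf6 : CovI (newC P Q wy 4 3 1) 50820 59290 := (.app (.app (.app (.one n60 rfl) (.one n61 rfl)) (.app (.one n62 rfl) (.app (.one n63 rfl) (.one n64 rfl)))) (.app (.app (.one n65 rfl) (.one n66 rfl)) (.app (.one n67 rfl) (.app (.one n68 rfl) (.one n69 rfl)))))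

end Cfsg.Agent.H90.S2Fi24
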