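import Cfsg.Agent.H90.S2Fi24.Data

/-! Check (generated, owner: helper90). -/

set_option autoImplicit false
set_option maxRecDepth 1000000

namespace Cfsg.Agent.H90.S2Fi24

open Cfsg.Agent.CosetEnum Cfsg.Agent.H90.Sift Cfsg.Agent.H90.Sift2

theorem n80 : allR (newC P Q wy 4 3 1) 67760 847 = true := by decide +kernel

theorem n81 : allR (newC P Q wy 4 3 1) 68607 847 = true := by decide +kernel

theorem n82 : allR (newC P Q wy 4 3 1) 69454 847 = true := by decide +kernel

theorem n83 : allR (newC P Q wy 4 3 1) 70301 847 = true := by decide +kernel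

theorem n84 : allR (newC P Q wy 4 3 1) 71148 847 = true := by decide +kernel

theorem n85 : allR (newC P Q wy 4 3 1) 71995 847 = true := by decide +kernel

theorem n86 : allR (newC P Q wy 4 3 1) 72842 847 = true := by decide +kernel

theorem n87 : allR (newC P Q wy 4 3 1) 73689 847 = true := by decide +kernel

theorem n88 : allR (newC P Q wy 4 3 1) 74536 847 = true := by decide +kernel

theorem n89 : allR (newC P Q wy 4 3 1) 75383 847 = true := by decide +kernel

theorem nf8 : CovI (newC P Q wy 4 3 1) 67760 76230 := (.app (.app (.app (.one n80 rfl) (.one n81 rfl)) (.app (.one n82 rfl) (.app (.one n83 rfl) (.one n84 rfl)))) (.app (.app (.one n85 rfl) (.one n86 rfl)) (.app (.one n87 rfl) (.app (.one n88 rfl) (.one n89 rfl)))))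

end Cfsg.Agent.H90.S2Fi24
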