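import Cfsg.Agent.H90.S2Fi24.Data

/-! Check (generated, owner: helper90). -/

set_option autoImplicit false
set_option maxRecDepth 1000000

namespace Cfsg.Agent.H90.S2Fi24

open Cfsg.Agent.CosetEnum Cfsg.Agent.H90.Sift Cfsg.Agent.H90.Sift2

theorem n90 : allR (newC P Q wy 4 3 1) 76230 847 = true := by decide +kernel

theorem n91 : allR (newC P Q wy 4 3 1) 77077 847 = true := by decide +kernel

theorem n92 : allR (newC P Q wy 4 3 1) 77924 847 = true := by decide +kernel

theorem n93 : allR (newC P Q wy 4 3 1) 78771 847 = true := by decide +kernel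

theorem n94 : allR (newC P Q wy 4 3 1) 79618 847 = true := by decide +kernel

theorem n95 : allR (newC P Q wy 4 3 1) 80465 847 = true := by decide +kernel

theorem n96 : allR (newC P Q wy 4 3 1) 81312 847 = true := by decide +kernel

theorem n97 : allR (newC P Q wy 4 3 1) 82159 847 = true := by decide +kernel

theorem n98 : allR (newC P Q wy 4 3 1) 83006 847 = true := by decide +kernel

theorem n99 : allR (newC P Q wy 4 3 1) 83853 847 = true := by decide +kernel

theorem nf9 : CovI (newC P Q wy 4 3 1) 76230 84700 := (.app (.app (.app (.one n90 rfl) (.one n91 rfl)) (.app (.one n92 rfl) (.app (.one n93 rfl) (.one n94 rfl)))) (.app (.app (.one n95 rfl) (.one n96 rfl)) (.app (.one n97 rfl) (.app (.one n98 rfl) (.one n99 rfl)))))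

end Cfsg.Agent.H90.S2Fi24
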