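import Cfsg.Agent.H90.S2Fi24.Data
import Cfsg.Agent.H90.Sift2Main
import Cfsg.Agent.H90.Sift2Par

/-! Check (generated, owner: helper90). -/

set_option autoImplicit false
set_option maxRecDepth 1000000

namespace Cfsg.Agent.H90.S2Fi24

open Cfsg.Agent.CosetEnum Cfsg.Agent.H90.Sift Cfsg.Agent.H90.Sift2

theorem small : smallB P bsB 29 4 1 14 0x3 0x4 2 0x9 0x12 0 R = true := by decide +kernel

theorem rel : relC P ru rv 4 3 1 bsA = true := by decide +kernel

theorem c1 : candA P R bsB true 1 2 0x4 0x3 5 14 gs v1 = true := by decide +kernel

theorem c2 : candA P R bsB true 0x9 0x12 0x4 0x3 e2 14 gs v2 = true := by decide +kernel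

theorem un : eqB (itr P 3 14) (fun b => b) bsB = true := by decide +kernel

theorem us : eqB (run P 0x3) (itr P 3 1) bsB = true := by decide +kernel

theorem gen : genB3 P Q lw bsA = true := by decide +kernel

theorem m0 : Nat.beq M0 (Nat.pred (Nat.pow 2 306936)) = true := by decide +kernel

theorem fxA1 : fixA rw (0 :: gA1) [9] = true := by decide +kernel

theorem bmA1 : tb mA1 275265 = true := by decide +kernel

theorem fxA2 : fixA rw (0 :: gA2) [275265, 9] = true := by decide +kernel

theorem bmA2 : tb mA2 39 = true := by decide +kernel

theorem fxA3 : fixA rw (0 :: gA3) [39, 275265, 9] = true := by decide +kernel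

theorem bmA3 : tb mA3 2194 = true := by decide +kernel

theorem fxA4 : fixA rw (0 :: gA4) [2194, 39, 275265, 9] = true := by decide +kernel

theorem bmA4 : tb mA4 37075 = true := by decide +kernel

theorem fxA5 : fixA rw (0 :: gA5) [37075, 2194, 39, 275265, 9] = true := by decide +kernel

theorem bmA5 : tb mA5 64533 = true := by decide +kernel

theorem baA0 : Nat.beq (act P 1 9) 275265 = true := by decide +kernel

theorem baA1 : Nat.beq (act P 1 275265) 39 = true := by decide +kernel

theorem baA2 : Nat.beq (act P 1 39) 2194 = true := by decide +kernel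

theorem baA3 : Nat.beq (act P 1 2194) 37075 = true := by decide +kernel

theorem baA4 : Nat.beq (act P 1 37075) 64533 = true := by decide +kernel

theorem fxB1 : fixA rw (0 :: gB1) [3] = true := by decide +kernel

theorem bmB1 : tb mB1 1223 = true := by decide +kernel

theorem fxB2 : fixA rw (0 :: gB2) [1223, 3] = true := by decide +kernel

theorem bmB2 : tb mB2 269497 = true := by decide +kernel

theorem fxB3 : fixA rw (0 :: gB3) [269497, 1223, 3] = true := by decide +kernel

theorem bmB3 : tb mB3 156888 = true := by decide +kernel

theorem fxB4 : fixA rw (0 :: gB4) [156888, 269497, 1223, 3] = true := by decide +kernel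

theorem bmB4 : tb mB4 267033 = true := by decide +kernel

theorem fxB5 : fixA rw (0 :: gB5) [267033, 156888, 269497, 1223, 3] = true := by decide +kernel

theorem bmB5 : tb mB5 223524 = true := by decide +kernel

theorem baB0 : Nat.beq (act P 3 3) 1223 = true := by decide +kernel

theorem baB1 : Nat.beq (act P 3 1223) 269497 = true := by decide +kernel

theorem baB2 : Nat.beq (act P 3 269497) 156888 = true := by decide +kernel

theorem baB3 : Nat.beq (act P 3 156888) 267033 = true := by decide +kernel

theorem baB4 : Nat.beq (act P 3 267033) 223524 = true := by decide +kernel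


end Cfsg.Agent.H90.S2Fi24
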