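import Cfsg.Agent.H90.S2Fi24.Data

/-! Check (generated, owner: helper90). -/

set_option autoImplicit false
set_option maxRecDepth 1000000

namespace Cfsg.Agent.H90.S2Fi24

open Cfsg.Agent.CosetEnum Cfsg.Agent.H90.Sift Cfsg.Agent.H90.Sift2

theorem wU_58 : chunkB 13 8191 (wGap (act P 3)) skipB MU 24 0x112884410644e03a8cd402606812983d039a1a900f83d085405001d891812406a080085c2bc055 110034 118695 = true := by decide +kernel

theorem wU_59 : chunkB 13 8191 (wGap (act P 3)) skipB MU 8 0xa112d846879c1bc0dc868e766 118695 127246 = true := by decide +kernel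

theorem wU_60 : chunkB 13 8191 (wGap (act P 3)) skipB MU 4 0x38cbdb878cd8c 127246 137451 = true := by decide +kernel

theorem wU_61 : chunkB 13 8191 (wGap (act P 3)) skipB MU 3 0x1d46718ce4 137451 147631 = true := by decide +kernel

theorem wU_f2 : Chs 13 8191 (wGap (act P 3)) skipB MU 39 110034 147631 :=
  (show Chs 13 8191 (wGap (act P 3)) skipB MU _ 110034 147631 from (.app (.app (.one wU_58 rfl) (.one wU_59 rfl)) (.app (.one wU_60 rfl) (.one wU_61 rfl)))).cast rfl

end Cfsg.Agent.H90.S2Fi24
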