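import Cfsg.Agent.H90.S2Fi24.Data

/-! Check (generated, owner: helper90). -/

set_option autoImplicit false
set_option maxRecDepth 1000000

namespace Cfsg.Agent.H90.S2Fi24

open Cfsg.Agent.CosetEnum Cfsg.Agent.H90.Sift Cfsg.Agent.H90.Sift2

theorem wY_30 : chunkB 14 16383 (wGap (act P 1)) skipB MY 17 0x7f820f001d03d0000099c01602b817107a406b09440fc0aac2e003c0010 81669 90403 = true := by decide +kernel

theorem wY_31 : chunkB 14 16383 (wGap (act P 1)) skipB MY 14 0x125401405ec13c00905ef0ab03e902a405a02144aa062c374 90403 98410 = true := by decide +kernel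

theorem wY_32 : chunkB 14 16383 (wGap (act P 1)) skipB MY 5 0x3e4047425e0dbc7da 98410 103191 = true := by decide +kernel

theorem wY_33 : chunkB 14 16383 (wGap (act P 1)) skipB MY 1 0x147b 103191 108435 = true := by decide +kernel

theorem wY_34 : chunkB 14 16383 (wGap (act P 1)) skipB MY 1 0x37f0 108435 122756 = true := by decide +kernel

theorem wY_35 : chunkB 14 16383 (wGap (act P 1)) skipB MY 1 0x893 122756 124952 = true := by decide +kernel

theorem wY_f1 : Chs 14 16383 (wGap (act P 1)) skipB MY 39 81669 124952 :=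
  (show Chs 14 16383 (wGap (act P 1)) skipB MY _ 81669 124952 from (.app (.app (.one wY_30 rfl) (.app (.one wY_31 rfl) (.one wY_32 rfl))) (.app (.one wY_33 rfl) (.app (.one wY_34 rfl) (.one wY_35 rfl))))).cast rfl

end Cfsg.Agent.H90.S2Fi24
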