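import Cfsg.Agent.H90.S2Fi24.Data

/-! Check (generated, owner: helper90). -/

set_option autoImplicit false
set_option maxRecDepth 1000000

namespace Cfsg.Agent.H90.S2Fi24

open Cfsg.Agent.CosetEnum Cfsg.Agent.H90.Sift Cfsg.Agent.H90.Sift2

theorem wY_36 : chunkB 14 16383 (wGap (act P 1)) skipB MY 1 0x32ca 124952 306936 = true := by decide +kernel

theorem wY_f2 : Chs 14 16383 (wGap (act P 1)) skipB MY 1 124952 306936 :=
  (show Chs 14 16383 (wGap (act P 1)) skipB MY _ 124952 306936 from (.one wY_36 rfl)).cast rfl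

end Cfsg.Agent.H90.S2Fi24
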