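import Cfsg.Agent.H90.Sift2Main
import Cfsg.Agent.H90.Sift2Par
import Cfsg.Agent.H90.S2Fi24.Small
import Cfsg.Agent.H90.S2Fi24.LA0_0
import Cfsg.Agent.H90.S2Fi24.LA0_1
import Cfsg.Agent.H90.S2Fi24.LA0_2
import Cfsg.Agent.H90.S2Fi24.LA0_3
import Cfsg.Agent.H90.S2Fi24.LA0_4
import Cfsg.Agent.H90.S2Fi24.LA0_5
import Cfsg.Agent.H90.S2Fi24.LA0_6
import Cfsg.Agent.H90.S2Fi24.LA0_7
import Cfsg.Agent.H90.S2Fi24.LA0_8
import Cfsg.Agent.H90.S2Fi24.LA0_9
import Cfsg.Agent.H90.S2Fi24.LA0_10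
import Cfsg.Agent.H90.S2Fi24.LA1_0
import Cfsg.Agent.H90.S2Fi24.LA1_1
import Cfsg.Agent.H90.S2Fi24.LA2_0
import Cfsg.Agent.H90.S2Fi24.LA2_1
import Cfsg.Agent.H90.S2Fi24.LA3_0
import Cfsg.Agent.H90.S2Fi24.LA4_0
import Cfsg.Agent.H90.S2Fi24.LA5_0
import Cfsg.Agent.H90.S2Fi24.LB1_0
import Cfsg.Agent.H90.S2Fi24.LB1_1
import Cfsg.Agent.H90.S2Fi24.LB2_0
import Cfsg.Agent.H90.S2Fi24.LB2_1
import Cfsg.Agent.H90.S2Fi24.LB3_0
import Cfsg.Agent.H90.S2Fi24.LB4_0
import Cfsg.Agent.H90.S2Fi24.LB4_1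
import Cfsg.Agent.H90.S2Fi24.LB5_0
import Cfsg.Agent.H90.S2Fi24.WY0
import Cfsg.Agent.H90.S2Fi24.WY1
import Cfsg.Agent.H90.S2Fi24.WY2
import Cfsg.Agent.H90.S2Fi24.WU0
import Cfsg.Agent.H90.S2Fi24.WU1
import Cfsg.Agent.H90.S2Fi24.WU2
import Cfsg.Agent.H90.S2Fi24.WU3
import Cfsg.Agent.H90.S2Fi24.DU0
import Cfsg.Agent.H90.S2Fi24.DU1
import Cfsg.Agent.H90.S2Fi24.DU2
import Cfsg.Agent.H90.S2Fi24.DV0
import Cfsg.Agent.H90.S2Fi24.DV1
import Cfsg.Agent.H90.S2Fi24.DV2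
import Cfsg.Agent.H90.S2Fi24.SA0
import Cfsg.Agent.H90.S2Fi24.SA1
import Cfsg.Agent.H90.S2Fi24.SB0
import Cfsg.Agent.H90.S2Fi24.SB1
import Cfsg.Agent.H90.S2Fi24.SB2
import Cfsg.Agent.H90.S2Fi24.SB3
import Cfsg.Agent.H90.S2Fi24.SB4
import Cfsg.Agent.H90.S2Fi24.N0
import Cfsg.Agent.H90.S2Fi24.N1
import Cfsg.Agent.H90.S2Fi24.N2
import Cfsg.Agent.H90.S2Fi24.N3
import Cfsg.Agent.H90.S2Fi24.N4
import Cfsg.Agent.H90.S2Fi24.N5
import Cfsg.Agent.H90.S2Fi24.N6
import Cfsg.Agent.H90.S2Fi24.N7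
import Cfsg.Agent.H90.S2Fi24.N8
import Cfsg.Agent.H90.S2Fi24.N9
import Cfsg.Agent.H90.S2Fi24.N10
import Cfsg.Agent.H90.S2Fi24.N11
import Cfsg.Agent.H90.S2Fi24.N12
import Cfsg.Agent.H90.S2Fi24.N13
import Cfsg.Agent.H90.S2Fi24.N14
import Cfsg.Agent.H90.S2Fi24.N15
import Cfsg.Agent.H90.S2Fi24.N16
import Cfsg.Agent.H90.S2Fi24.N17
import Cfsg.Agent.H90.S2Fi24.N18
import Cfsg.Agent.H90.S2Fi24.N19
import Cfsg.Agent.H90.S2Fi24.N20
import Cfsg.Agent.H90.S2Fi24.N21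
import Cfsg.Agent.H90.S2Fi24.N22
import Cfsg.Agent.H90.S2Fi24.N23
import Cfsg.Agent.H90.S2Fi24.N24
import Cfsg.Agent.H90.S2Fi24.N25
import Cfsg.Agent.H90.S2Fi24.N26
import Cfsg.Agent.H90.S2Fi24.N27
import Cfsg.Agent.H90.S2Fi24.N28
import Cfsg.Agent.H90.S2Fi24.N29
import Cfsg.Agent.H90.S2Fi24.N30
import Cfsg.Agent.H90.S2Fi24.N31
import Cfsg.Agent.H90.S2Fi24.N32
import Cfsg.Agent.H90.S2Fi24.N33
import Cfsg.Agent.H90.S2Fi24.N34
import Cfsg.Agent.H90.S2Fi24.N35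
import Cfsg.Agent.H90.S2Fi24.N36

/-! Assembly (generated, owner: helper90). -/

set_option autoImplicit false
set_option maxRecDepth 1000000

namespace Cfsg.Agent.H90.S2Fi24

open Cfsg.Agent.CosetEnum Cfsg.Agent.H90.Sift Cfsg.Agent.H90.Sift2

open Subgroup

theorem da0_all : Chs 1 1 noGap (dscB app0 4 0xf (fun _ => true) 0) M0 306936 0 306936 :=
  (show Chs 1 1 noGap (dscB app0 4 0xf (fun _ => true) 0) M0 _ 0 306936 from (.app (.app (.app da0_f0 da0_f1) (.app da0_f2 (.app da0_f3 da0_f4))) (.app (.app da0_f5 (.app da0_f6 da0_f7)) (.app da0_f8 (.app da0_f9 da0_f10))))).cast rfl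

theorem da1_all : Chs 13 8191 noGap (dscB appA1 16 0xffff (tb mA1) 1) mA1 31671 0 306936 :=
  (show Chs 13 8191 noGap (dscB appA1 16 0xffff (tb mA1) 1) mA1 _ 0 306936 from (.app da1_f0 da1_f1)).cast rfl

theorem da2_all : Chs 14 16383 noGap (dscB appA2 20 0xfffff (tb mA2) 0) mA2 28160 0 306936 :=
  (show Chs 14 16383 noGap (dscB appA2 20 0xfffff (tb mA2) 0) mA2 _ 0 306936 from (.app da2_f0 da2_f1)).cast rfl

theorem da3_all : Chs 9 511 noGap (dscB appA3 48 0xffffffffffff (tb mA3) 3) mA3 25272 0 306936 :=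
  (show Chs 9 511 noGap (dscB appA3 48 0xffffffffffff (tb mA3) 3) mA3 _ 0 306936 from da3_f0).cast rfl

theorem da4_all : Chs 8 255 noGap (dscB appA4 40 0xffffffffff (tb mA4) 221) mA4 15120 0 306936 :=
  (show Chs 8 255 noGap (dscB appA4 40 0xffffffffff (tb mA4) 221) mA4 _ 0 306936 from da4_f0).cast rfl

theorem da5_all : Chs 16 65535 noGap (dscB appA5 8 0xff (tb mA5) 34755) mA5 24 0 306936 :=
  (show Chs 16 65535 noGap (dscB appA5 8 0xff (tb mA5) 34755) mA5 _ 0 306936 from da5_f0).cast rfl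

theorem db1_all : Chs 14 16383 noGap (dscB appB1 8 0xff (tb mB1) 2) mB1 31671 0 306936 :=
  (show Chs 14 16383 noGap (dscB appB1 8 0xff (tb mB1) 2) mB1 _ 0 306936 from (.app db1_f0 db1_f1)).cast rfl

theorem db2_all : Chs 8 255 noGap (dscB appB2 40 0xffffffffff (tb mB2) 7) mB2 28160 0 306936 :=
  (show Chs 8 255 noGap (dscB appB2 40 0xffffffffff (tb mB2) 7) mB2 _ 0 306936 from (.app db2_f0 db2_f1)).cast rfl

theorem db3_all : Chs 8 255 noGap (dscB appB3 24 0xffffff (tb mB3) 38) mB3 25272 0 306936 :=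
  (show Chs 8 255 noGap (dscB appB3 24 0xffffff (tb mB3) 38) mB3 _ 0 306936 from db3_f0).cast rfl

theorem db4_all : Chs 8 255 noGap (dscB appB4 28 0xfffffff (tb mB4) 31) mB4 15120 0 306936 :=
  (show Chs 8 255 noGap (dscB appB4 28 0xfffffff (tb mB4) 31) mB4 _ 0 306936 from (.app db4_f0 db4_f1)).cast rfl

theorem db5_all : Chs 16 65535 noGap (dscB appB5 8 0xff (tb mB5) 19751) mB5 24 0 306936 :=
  (show Chs 16 65535 noGap (dscB appB5 8 0xff (tb mB5) 19751) mB5 _ 0 306936 from db5_f0).cast rfl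

theorem wY_all : Chs 14 16383 (wGap (act P 1)) skipB MY 10584 0 306936 :=
  (show Chs 14 16383 (wGap (act P 1)) skipB MY _ 0 306936 from (.app wY_f0 (.app wY_f1 wY_f2))).cast rfl

theorem wU_all : Chs 13 8191 (wGap (act P 3)) skipB MU 21960 0 306936 :=
  (show Chs 13 8191 (wGap (act P 3)) skipB MU _ 0 306936 from (.app (.app wU_f0 wU_f1) (.app wU_f2 wU_f3))).cast rfl

theorem dU_all : Chs 14 16383 noGap (dirB P 3 ru) MY 10584 0 306936 :=
  (show Chs 14 16383 noGap (dirB P 3 ru) MY _ 0 306936 from (.app dU_f0 (.app dU_f1 dU_f2))).cast rfl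

theorem dV_all : Chs 13 8191 noGap (dirB P 5 rv) MU 21960 0 306936 :=
  (show Chs 13 8191 noGap (dirB P 5 rv) MU _ 0 306936 from (.app dV_f0 (.app dV_f1 dV_f2))).cast rfl

theorem sA_all : Chs 14 16383 noGap (sftB (act P 1) 72 0xffffffffffffffffff (run P) rw [0] [] LvA) MY 10584 0 306936 :=
  (show Chs 14 16383 noGap (sftB (act P 1) 72 0xffffffffffffffffff (run P) rw [0] [] LvA) MY _ 0 306936 from (.app sA_f0 sA_f1)).cast rfl

theorem sB_all : Chs 13 8191 noGap (sftB (act P 3) 40 0xffffffffff (run P) rw gw od LvB) MU 21960 0 306936 :=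
  (show Chs 13 8191 noGap (sftB (act P 3) 40 0xffffffffff (run P) rw gw od LvB) MU _ 0 306936 from (.app (.app sB_f0 sB_f1) (.app sB_f2 (.app sB_f3 sB_f4)))).cast rfl

theorem ncov : CovI (newC P Q wy 4 3 1) 0 306936 := (.app (.app (.app (.app (.app nf0 nf1) (.app nf2 nf3)) (.app (.app nf4 nf5) (.app nf6 (.app nf7 nf8)))) (.app (.app (.app nf9 nf10) (.app nf11 nf12)) (.app (.app nf13 nf14) (.app nf15 (.app nf16 nf17))))) (.app (.app (.app (.app nf18 nf19) (.app nf20 nf21)) (.app (.app nf22 nf23) (.app nf24 (.app nf25 nf26)))) (.app (.app (.app nf27 nf28) (.app nf29 (.app nf30 nf31))) (.app (.app nf32 nf33) (.app nf34 (.app nf35 nf36))))))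

theorem m0_bit {x : ℕ} (hx : x < P.m) : M0.testBit x = true := by
  rw [show M0 = 2 ^ 306936 - 1 from Nat.eq_of_beq_eq_true m0, Nat.testBit_two_pow_sub_one]
  exact decide_eq_true hx

section

variable {G : Type*} [Group G] [MulAction G (Fin P.m)] {f : ℕ → G}
  (hQ : ∀ d, d ≠ 0 → d ≤ 12 → Is P (act Q d) (f d))

include hQ

theorem ywy : Is P (act P 1) ((wy.map f).prod) ∧ Is P (act P 2) ((wy.map f).prod)⁻¹ :=
  stage1 hQ (by decide) ncov.sound

theorem mix_ok (d : ℕ) (h0 : d ≠ 0) (h1 : d ≤ 14) : Is P (mixA Q P 12 d) (mixE f 12 ((wy.map f).prod) d) :=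
  mixA_is hQ (ywy hQ).1 (ywy hQ).2 d h0 h1

theorem app0_ok : AppOK P (⊤ : Subgroup G) [] app0 :=
  runF_ok (fun d h0 h1 => ⟨_, mem_top _, mix_ok hQ d h0 h1, fun c hc => by simp at hc⟩) 64

theorem rw_ok : AppOK P (⊤ : Subgroup G) [] rw :=
  runF_ok (fun d h0 h1 => ⟨_, mem_top _, mix_ok hQ d h0 h1, fun c hc => by simp at hc⟩) 1000

theorem rw_is (w : ℕ) : Is P (rw w) (wordE (mixE f 12 ((wy.map f).prod)) 4 15 14 1000 w) :=
  wordE_is (mix_ok hQ) 1000 w

theorem levA0 : Lev P (⊤ : Subgroup G) [] 9 M0 306936 0 P.m :=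
  lev_of (Gr := fun _ => True) (root := 0) (m0_bit (show 9 < P.m by show 9 < 306936; norm_num))
    (Chs.sound (fun j d h i h1 h2 => trivial) (fun j v k h => dscB_sound (app0_ok hQ) (fun x hx _ => m0_bit hx) h) da0_all)

theorem appA1_ok : AppOK P (⊤ : Subgroup G) [9] appA1 := runG_ok (rw_ok hQ) fxA1 24

theorem levA1 : Lev P (⊤ : Subgroup G) [9] 275265 mA1 31671 0 P.m :=
  lev_of (Gr := fun _ => True) (root := 1) (tb_eq bmA1)
    (Chs.sound (fun j d h i h1 h2 => trivial) (fun j v k h => dscB_sound (appA1_ok hQ) (fun x _ hx => tb_eq hx) h) da1_all)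

theorem appA2_ok : AppOK P (⊤ : Subgroup G) [275265, 9] appA2 := runG_ok (rw_ok hQ) fxA2 24

theorem levA2 : Lev P (⊤ : Subgroup G) [275265, 9] 39 mA2 28160 0 P.m :=
  lev_of (Gr := fun _ => True) (root := 0) (tb_eq bmA2)
    (Chs.sound (fun j d h i h1 h2 => trivial) (fun j v k h => dscB_sound (appA2_ok hQ) (fun x _ hx => tb_eq hx) h) da2_all)

theorem appA3_ok : AppOK P (⊤ : Subgroup G) [39, 275265, 9] appA3 := runG_ok (rw_ok hQ) fxA3 24

theorem levA3 : Lev P (⊤ : Subgroup G) [39, 275265, 9] 2194 mA3 25272 0 P.m :=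
  lev_of (Gr := fun _ => True) (root := 3) (tb_eq bmA3)
    (Chs.sound (fun j d h i h1 h2 => trivial) (fun j v k h => dscB_sound (appA3_ok hQ) (fun x _ hx => tb_eq hx) h) da3_all)

theorem appA4_ok : AppOK P (⊤ : Subgroup G) [2194, 39, 275265, 9] appA4 := runG_ok (rw_ok hQ) fxA4 24

theorem levA4 : Lev P (⊤ : Subgroup G) [2194, 39, 275265, 9] 37075 mA4 15120 0 P.m :=
  lev_of (Gr := fun _ => True) (root := 221) (tb_eq bmA4)
    (Chs.sound (fun j d h i h1 h2 => trivial) (fun j v k h => dscB_sound (appA4_ok hQ) (fun x _ hx => tb_eq hx) h) da4_all)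

theorem appA5_ok : AppOK P (⊤ : Subgroup G) [37075, 2194, 39, 275265, 9] appA5 := runG_ok (rw_ok hQ) fxA5 24

theorem levA5 : Lev P (⊤ : Subgroup G) [37075, 2194, 39, 275265, 9] 64533 mA5 24 0 P.m :=
  lev_of (Gr := fun _ => True) (root := 34755) (tb_eq bmA5)
    (Chs.sound (fun j d h i h1 h2 => trivial) (fun j v k h => dscB_sound (appA5_ok hQ) (fun x _ hx => tb_eq hx) h) da5_all)

theorem chainA : ChP P (⊤ : Subgroup G) cA [] :=
  ⟨(show 9 < 306936 by norm_num), levA0 hQ, ⟨(show 275265 < 306936 by norm_num), levA1 hQ, ⟨(show 39 < 306936 by norm_num), levA2 hQ, ⟨(show 2194 < 306936 by norm_num), levA3 hQ, ⟨(show 37075 < 306936 by norm_num), levA4 hQ, ⟨(show 64533 < 306936 by norm_num), levA5 hQ, trivial⟩⟩⟩⟩⟩⟩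

theorem aokA : AOK G P lA [] :=
  ⟨app0_ok hQ, ⟨appA1_ok hQ, ⟨appA2_ok hQ, ⟨appA3_ok hQ, ⟨appA4_ok hQ, ⟨appA5_ok hQ, trivial⟩⟩⟩⟩⟩⟩

theorem levB0 : Lev P (⊤ : Subgroup G) [] 3 M0 306936 0 P.m :=
  lev_of (Gr := fun _ => True) (root := 0) (m0_bit (show 3 < P.m by show 3 < 306936; norm_num))
    (Chs.sound (fun j d h i h1 h2 => trivial) (fun j v k h => dscB_sound (app0_ok hQ) (fun x hx _ => m0_bit hx) h) da0_all)

theorem appB1_ok : AppOK P (⊤ : Subgroup G) [3] appB1 := runG_ok (rw_ok hQ) fxB1 24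

theorem levB1 : Lev P (⊤ : Subgroup G) [3] 1223 mB1 31671 0 P.m :=
  lev_of (Gr := fun _ => True) (root := 2) (tb_eq bmB1)
    (Chs.sound (fun j d h i h1 h2 => trivial) (fun j v k h => dscB_sound (appB1_ok hQ) (fun x _ hx => tb_eq hx) h) db1_all)

theorem appB2_ok : AppOK P (⊤ : Subgroup G) [1223, 3] appB2 := runG_ok (rw_ok hQ) fxB2 24

theorem levB2 : Lev P (⊤ : Subgroup G) [1223, 3] 269497 mB2 28160 0 P.m :=
  lev_of (Gr := fun _ => True) (root := 7) (tb_eq bmB2)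
    (Chs.sound (fun j d h i h1 h2 => trivial) (fun j v k h => dscB_sound (appB2_ok hQ) (fun x _ hx => tb_eq hx) h) db2_all)

theorem appB3_ok : AppOK P (⊤ : Subgroup G) [269497, 1223, 3] appB3 := runG_ok (rw_ok hQ) fxB3 24

theorem levB3 : Lev P (⊤ : Subgroup G) [269497, 1223, 3] 156888 mB3 25272 0 P.m :=
  lev_of (Gr := fun _ => True) (root := 38) (tb_eq bmB3)
    (Chs.sound (fun j d h i h1 h2 => trivial) (fun j v k h => dscB_sound (appB3_ok hQ) (fun x _ hx => tb_eq hx) h) db3_all)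

theorem appB4_ok : AppOK P (⊤ : Subgroup G) [156888, 269497, 1223, 3] appB4 := runG_ok (rw_ok hQ) fxB4 24

theorem levB4 : Lev P (⊤ : Subgroup G) [156888, 269497, 1223, 3] 267033 mB4 15120 0 P.m :=
  lev_of (Gr := fun _ => True) (root := 31) (tb_eq bmB4)
    (Chs.sound (fun j d h i h1 h2 => trivial) (fun j v k h => dscB_sound (appB4_ok hQ) (fun x _ hx => tb_eq hx) h) db4_all)

theorem appB5_ok : AppOK P (⊤ : Subgroup G) [267033, 156888, 269497, 1223, 3] appB5 := runG_ok (rw_ok hQ) fxB5 24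

theorem levB5 : Lev P (⊤ : Subgroup G) [267033, 156888, 269497, 1223, 3] 223524 mB5 24 0 P.m :=
  lev_of (Gr := fun _ => True) (root := 19751) (tb_eq bmB5)
    (Chs.sound (fun j d h i h1 h2 => trivial) (fun j v k h => dscB_sound (appB5_ok hQ) (fun x _ hx => tb_eq hx) h) db5_all)

theorem chainB : ChP P (⊤ : Subgroup G) cB [] :=
  ⟨(show 3 < 306936 by norm_num), levB0 hQ, ⟨(show 1223 < 306936 by norm_num), levB1 hQ, ⟨(show 269497 < 306936 by norm_num), levB2 hQ, ⟨(show 156888 < 306936 by norm_num), levB3 hQ, ⟨(show 267033 < 306936 by norm_num), levB4 hQ, ⟨(show 223524 < 306936 by norm_num), levB5 hQ, trivial⟩⟩⟩⟩⟩⟩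

theorem aokB : AOK G P lB [] :=
  ⟨app0_ok hQ, ⟨appB1_ok hQ, ⟨appB2_ok hQ, ⟨appB3_ok hQ, ⟨appB4_ok hQ, ⟨appB5_ok hQ, trivial⟩⟩⟩⟩⟩⟩

end

theorem basedA : BasedF (act P 1) lA :=
  ⟨Nat.eq_of_beq_eq_true baA0, ⟨Nat.eq_of_beq_eq_true baA1, ⟨Nat.eq_of_beq_eq_true baA2, ⟨Nat.eq_of_beq_eq_true baA3, ⟨Nat.eq_of_beq_eq_true baA4, trivial⟩⟩⟩⟩⟩

theorem ltA : ∀ t ∈ lA, t.1.1 < P.m := by
  intro t ht
  simp only [lA, List.mem_cons, List.not_mem_nil, or_false] at ht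
  show t.1.1 < 306936
  rcases ht with rfl | rfl | rfl | rfl | rfl | rfl <;> norm_num

theorem basedB : BasedF (act P 3) lB :=
  ⟨Nat.eq_of_beq_eq_true baB0, ⟨Nat.eq_of_beq_eq_true baB1, ⟨Nat.eq_of_beq_eq_true baB2, ⟨Nat.eq_of_beq_eq_true baB3, ⟨Nat.eq_of_beq_eq_true baB4, trivial⟩⟩⟩⟩⟩

theorem ltB : ∀ t ∈ lB, t.1.1 < P.m := by
  intro t ht
  simp only [lB, List.mem_cons, List.not_mem_nil, or_false] at ht
  show t.1.1 < 306936
  rcases ht with rfl | rfl | rfl | rfl | rfl | rfl <;> norm_num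


theorem hks : ∀ m < 29, m ≠ 0 → ∃ a : ℕ, (4 ^ a * m) % 29 = 1 ∨ (4 ^ a * m) % 29 = 2 := by
  have h : ∀ m < 29, m ≠ 0 → ∃ a < 29, (4 ^ a * m) % 29 = 1 ∨ (4 ^ a * m) % 29 = 2 := by decide +kernel
  intro m h1 h2
  obtain ⟨a, _, h3⟩ := h m h1 h2
  exact ⟨a, h3⟩

/-- the new letters -/
def gg {G : Type*} [Group G] (f : ℕ → G) : ℕ → G :=
  gN ((wy.map f).prod) (wordE (mixE f 12 ((wy.map f).prod)) 4 15 14 1000 cu)
    (wordE (mixE f 12 ((wy.map f).prod)) 4 15 14 1000 cv)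

section

variable {G : Type} [Group G] [Finite G] [MulAction G (Fin P.m)] {f : ℕ → G}
  (hQ : ∀ d, d ≠ 0 → d ≤ 12 → Is P (act Q d) (f d)) (hN : Nat.card G = 2510411418381323442585600)

include hQ hN

theorem exA : ExP G P cA [] := (chainA hQ).exact' (by rw [hN]; decide +kernel)

theorem exB : ExP G P cB [] := (chainB hQ).exact' (by rw [hN]; decide +kernel)

theorem wYs : CK (fun _ => True) (NM P ((wy.map f).prod)) MY 10584 0 P.m :=
  Chs.sound (wGap_sound (ywy hQ).1) skipB_sound wY_all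

theorem letters : LettersOK P (gg f) :=
  stage2 hQ (by decide) ncov.sound (exA hQ hN) (by decide) rel (wYs hQ hN)
    (Chs.sound (Gr := fun _ => True) (fun j d h i h1 h2 => trivial) (fun j v k h => dirB_sound j v k h) dU_all)
    (fun h3 => Chs.sound (wGap_sound h3) skipB_sound wU_all)
    (Chs.sound (Gr := fun _ => True) (fun j d h i h1 h2 => trivial) (fun j v k h => dirB_sound j v k h) dV_all)

theorem solA : ∀ i < P.m, PtOK P (elt (gg f) 1) (elt (gg f) 1) {z | ∃ w ∈ [0], z = elt (gg f) w} 9 i := by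
  have h := letters hQ hN
  have e1 : elt (gg f) 1 = gg f 1 := elt_digit (by norm_num) (by norm_num)
  have h1 : Is P (act P 1) (elt (gg f) 1) := by rw [e1]; exact is_act h.ra (by norm_num)
  intro i hi
  have h2 := ptok_of (e := 1) (y0 := (wy.map f).prod) (by rw [pow_one, e1]; rfl) (wYs hQ hN)
    (Chs.sound (Gr := fun _ => True) (fun j d h i h1 h2 => trivial)
      (sftB_sound (s := ((9, M0, 306936), app0)) (l := [((275265, mA1, 31671), appA1), ((39, mA2, 28160), appA2), ((2194, mA3, 25272), appA3), ((37075, mA4, 15120), appA4), ((64533, mA5, 24), appA5)]) h1 h1 (is_run h.ra) (rw_is hQ) (exA hQ hN) (aokA hQ) ltA basedA) sA_all) i hi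
  refine h2.mono2 ?_
  rintro z (hz | ⟨w, hw, _⟩)
  · exact hz
  · exact absurd hw (by simp)

theorem powU : (elt (gg f) 0x3) ^ 1 = gg f 3 := by
  have h := letters hQ hN
  have d3 : elt (gg f) 3 = gg f 3 := elt_digit (by norm_num) (by norm_num)
  have e1 : gg f 3 ^ 14 = 1 := by
    have := eq_of_eqB (exB hQ hN) un (fun i => itr_sound h.ra 3 14 i) (y := 1) (fun i => by rw [inv_one, one_smul])
    rwa [d3] at this
  have e2 : elt (gg f) 0x3 = gg f 3 ^ 1 := by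
    have := eq_of_eqB (exB hQ hN) us (fun i => run_sound h.ra _ i) (fun i => itr_sound h.ra 3 1 i)
    rw [d3] at this
    try rw [d3]
    exact this
  rw [e2]
  exact pow_inv_of (q := 0) e1 (by norm_num)


theorem solB0 : ∀ i < P.m, PtOK P (elt (gg f) 3) (elt (gg f) 0x3) ({z | ∃ w ∈ gw, z = elt (gg f) w} ∪
    {z | ∃ w ∈ od, z = wordE (mixE f 12 ((wy.map f).prod)) 4 15 14 1000 w}) 3 i := by
  have h := letters hQ hN
  have d3 : elt (gg f) 3 = gg f 3 := elt_digit (by norm_num) (by norm_num)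
  have h1 : Is P (act P 3) (elt (gg f) 3) := by rw [d3]; exact is_act h.ra (by norm_num)
  have h2 : Is P (act P 3) (elt (gg f) 0x3) := by rw [elt_digit (by norm_num) (by norm_num)]; exact is_act h.ra (by norm_num)
  have h3 : Is P (act P 3) (gg f 3) := is_act h.ra (by norm_num)
  exact ptok_of (powU hQ hN) (Chs.sound (wGap_sound h3) skipB_sound wU_all)
    (Chs.sound (Gr := fun _ => True) (fun j d h i h1 h2 => trivial)
      (sftB_sound (s := ((3, M0, 306936), app0)) (l := [((1223, mB1, 31671), appB1), ((269497, mB2, 28160), appB2), ((156888, mB3, 25272), appB3), ((267033, mB4, 15120), appB4), ((223524, mB5, 24), appB5)]) h1 h2 (is_run h.ra) (rw_is hQ) (exB hQ hN) (aokB hQ) ltB basedB) sB_all)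


variable {σ : G →* ℤˣ} (hσ : ∀ d, d ≠ 0 → d ≤ 12 → σ (f d) = -1) {K : Subgroup G} (hK : ∀ z, z ∈ K ↔ σ z = 1)

include hσ

omit [Finite G] [MulAction G (Fin P.m)] hQ hN in
theorem sgn_y : σ ((wy.map f).prod) = 1 := by
  rw [sgn_prod hσ (by decide)]
  decide

omit [Finite G] [MulAction G (Fin P.m)] hQ hN in
theorem sgn_w (c : ℕ) (hc : oddD 4 15 12 1000 c = false) : σ (wordE (mixE f 12 ((wy.map f).prod)) 4 15 14 1000 c) = 1 := by
  rw [sgn_wordE hσ (sgn_y hσ) (by norm_num), hc]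
  rfl

omit [Finite G] [MulAction G (Fin P.m)] hQ hN in
theorem sgn_g (x : ℕ) : σ (gg f x) = 1 := by
  have h1 := sgn_y hσ
  have h3 := sgn_w hσ cu (by decide +kernel)
  have h5 := sgn_w hσ cv (by decide +kernel)
  unfold gg gN
  split_ifs
  · exact h1
  · rw [map_inv, h1, inv_one]
  · exact h3
  · rw [map_inv, h3, inv_one]
  · exact h5
  · rw [map_inv, h5, inv_one]
  · exact map_one σ

include hK

theorem out_two (hKc : Nat.card K = 1255205709190661721292800) (htop : Cl f 12 = ⊤) (hsq : ∀ d, isLet 12 d = true → f d * f d = 1) :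
    Nat.card (Cfsg.Out K) = 2 := by
  set g' : ℕ → K := fun x => ⟨gg f x, (hK _).2 (sgn_g hσ x)⟩ with hg'
  have hg : ∀ x, ((g' x : K) : G) = gg f x := fun x => rfl
  have hL := letters hQ hN
  have hod : ∀ w ∈ od, oddD 4 15 12 1000 w = true := by decide +kernel
  have hcov' : ∀ j, isLet 12 j = true → j = 1 ∨ j ∈ lw.map Prod.fst := by
    intro j hj
    rw [isLet_iff] at hj
    have h : ∀ j < 13, 1 ≤ j → j = 1 ∨ j ∈ lw.map Prod.fst := by decide +kernel
    exact h j (by omega) hj.1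
  have hlw : ∀ t ∈ lw, t.1 ≠ 0 ∧ t.1 ≤ 12 := by decide +kernel
  have hgen := genB3_sound hL.ra (f := f) (ws := lw) (hQ 1 (by norm_num) (by norm_num))
    (fun t ht => hQ _ (hlw t ht).1 (hlw t ht).2) (exA hQ hN) gen
  have hS : closure ({g' 1, g' 3, g' 5} : Set K) = ⊤ := by
    refine par_top hK hg hsq (hσ 1 (by norm_num) (by norm_num)) (fun d hd => ?_) htop
    rcases hcov' d hd with rfl | h
    · rw [hsq 1 hd]
      exact one_mem _
    · obtain ⟨t, ht, rfl⟩ := List.mem_map.1 h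
      rw [hgen t ht]
      refine list_prod_mem fun x hx => ?_
      obtain ⟨c, _, rfl⟩ := List.mem_map.1 hx
      exact elt_mem hL.mem _
  have hcc : Concl K (g' 1) (g' 3) (g' 5) ((g' 1) ^ 2) (elt g' e2) (true = true) := by
    have : Fact (Nat.Prime 29) := ⟨by norm_num⟩
    refine sift_main (letters_sub hg hL) (p := 29) (by rw [hKc]; decide +kernel) ((exB hQ hN).sub K) (bA := 9) (bB := 3)
      (show 9 < 306936 by norm_num) (show 3 < 306936 by norm_num) (fun i hi => ?_) (fun i hi => ?_)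
      ⟨22, 18, by decide +kernel, by decide +kernel⟩ hks small (by norm_num) c1 c2
    · refine (solA hQ hN i hi).sub (elt_sub hg 1) (elt_sub hg 1) ?_
      rintro z ⟨w, hw, hz⟩
      exact ⟨w, hw, Subtype.ext (hz.trans (elt_sub hg w).symm)⟩
    · refine (solB0 hQ hN i hi).sub (elt_sub hg 3) (elt_sub hg _) ?_
      rintro z (⟨w, hw, hz⟩ | ⟨w, hw, hz⟩)
      · exact ⟨w, hw, Subtype.ext (hz.trans (elt_sub hg w).symm)⟩
      · exfalso
        have h1 := (hK _).1 z.2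
        rw [hz, sgn_wordE hσ (sgn_y hσ) (by norm_num), if_pos (hod w hw)] at h1
        exact absurd h1 (by decide)
  exact par_two hK hg (show 9 < 306936 by norm_num) (solA hQ hN) hcc hS (hσ 1 (by norm_num) (by norm_num))


end

end Cfsg.Agent.H90.S2Fi24
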