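import Cfsg.Agent.H90.S2Fi24.Data

/-! Check (generated, owner: helper90). -/

set_option autoImplicit false
set_option maxRecDepth 1000000

namespace Cfsg.Agent.H90.S2Fi24

open Cfsg.Agent.CosetEnum Cfsg.Agent.H90.Sift Cfsg.Agent.H90.Sift2

theorem n210 : allR (newC P Q wy 4 3 1) 177870 847 = true := by decide +kernel

theorem n211 : allR (newC P Q wy 4 3 1) 178717 847 = true := by decide +kernel

theorem n212 : allR (newC P Q wy 4 3 1) 179564 847 = true := by decide +kernel

theorem n213 : allR (newC P Q wy 4 3 1) 180411 847 = true := by decide +kernel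

theorem n214 : allR (newC P Q wy 4 3 1) 181258 847 = true := by decide +kernel

theorem n215 : allR (newC P Q wy 4 3 1) 182105 847 = true := by decide +kernel

theorem n216 : allR (newC P Q wy 4 3 1) 182952 847 = true := by decide +kernel

theorem n217 : allR (newC P Q wy 4 3 1) 183799 847 = true := by decide +kernel

theorem n218 : allR (newC P Q wy 4 3 1) 184646 847 = true := by decide +kernel

theorem n219 : allR (newC P Q wy 4 3 1) 185493 847 = true := by decide +kernel

theorem nf21 : CovI (newC P Q wy 4 3 1) 177870 186340 := (.app (.app (.app (.one n210 rfl) (.one n211 rfl)) (.app (.one n212 rfl) (.app (.one n213 rfl) (.one n214 rfl)))) (.app (.app (.one n215 rfl) (.one n216 rfl)) (.app (.one n217 rfl) (.app (.one n218 rfl) (.one n219 rfl)))))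

end Cfsg.Agent.H90.S2Fi24
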