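import Cfsg.Agent.H90.S2Fi24.Data

/-! Check (generated, owner: helper90). -/

set_option autoImplicit false
set_option maxRecDepth 1000000

namespace Cfsg.Agent.H90.S2Fi24

open Cfsg.Agent.CosetEnum Cfsg.Agent.H90.Sift Cfsg.Agent.H90.Sift2

theorem n350 : allR (newC P Q wy 4 3 1) 296450 847 = true := by decide +kernel

theorem n351 : allR (newC P Q wy 4 3 1) 297297 847 = true := by decide +kernel

theorem n352 : allR (newC P Q wy 4 3 1) 298144 847 = true := by decide +kernel

theorem n353 : allR (newC P Q wy 4 3 1) 298991 847 = true := by decide +kernel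

theorem n354 : allR (newC P Q wy 4 3 1) 299838 847 = true := by decide +kernel

theorem n355 : allR (newC P Q wy 4 3 1) 300685 847 = true := by decide +kernel

theorem n356 : allR (newC P Q wy 4 3 1) 301532 847 = true := by decide +kernel

theorem n357 : allR (newC P Q wy 4 3 1) 302379 847 = true := by decide +kernel

theorem n358 : allR (newC P Q wy 4 3 1) 303226 847 = true := by decide +kernel

theorem n359 : allR (newC P Q wy 4 3 1) 304073 847 = true := by decide +kernel

theorem nf35 : CovI (newC P Q wy 4 3 1) 296450 304920 := (.app (.app (.app (.one n350 rfl) (.one n351 rfl)) (.app (.one n352 rfl) (.app (.one n353 rfl) (.one n354 rfl)))) (.app (.app (.one n355 rfl) (.one n356 rfl)) (.app (.one n357 rfl) (.app (.one n358 rfl) (.one n359 rfl)))))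

end Cfsg.Agent.H90.S2Fi24
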