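import Cfsg.Agent.H90.S2Fi24.Data

/-! Check (generated, owner: helper90). -/

set_option autoImplicit false
set_option maxRecDepth 1000000

namespace Cfsg.Agent.H90.S2Fi24

open Cfsg.Agent.CosetEnum Cfsg.Agent.H90.Sift Cfsg.Agent.H90.Sift2

theorem n70 : allR (newC P Q wy 4 3 1) 59290 847 = true := by decide +kernel

theorem n71 : allR (newC P Q wy 4 3 1) 60137 847 = true := by decide +kernel

theorem n72 : allR (newC P Q wy 4 3 1) 60984 847 = true := by decide +kernel

theorem n73 : allR (newC P Q wy 4 3 1) 61831 847 = true := by decide +kernel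

theorem n74 : allR (newC P Q wy 4 3 1) 62678 847 = true := by decide +kernel

theorem n75 : allR (newC P Q wy 4 3 1) 63525 847 = true := by decide +kernel

theorem n76 : allR (newC P Q wy 4 3 1) 64372 847 = true := by decide +kernel

theorem n77 : allR (newC P Q wy 4 3 1) 65219 847 = true := by decide +kernel

theorem n78 : allR (newC P Q wy 4 3 1) 66066 847 = true := by decide +kernel

theorem n79 : allR (newC P Q wy 4 3 1) 66913 847 = true := by decide +kernel

theorem nf7 : CovI (newC P Q wy 4 3 1) 59290 67760 := (.app (.app (.app (.one n70 rfl) (.one n71 rfl)) (.app (.one n72 rfl) (.app (.one n73 rfl) (.one n74 rfl)))) (.app (.app (.one n75 rfl) (.one n76 rfl)) (.app (.one n77 rfl) (.app (.one n78 rfl) (.one n79 rfl)))))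

end Cfsg.Agent.H90.S2Fi24
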