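import Cfsg.Agent.CosetEnum.Fi24.Main
import Cfsg.Agent.H90.S2Fi24.Chain

/-! The outer automorphism group of the Fischer group Fi24 prime (owner: helper90). -/

set_option autoImplicit false
set_option maxRecDepth 1000000

namespace Cfsg.Agent.H90.S2Fi24

open Cfsg.Agent.CosetEnum Cfsg.Agent.H90.Sift Cfsg.Agent.H90.Sift2

theorem out_fi24 : Nat.card (Cfsg.Out Spor.Fi24') = 2 := by
  have U := Fi24.U24
  have L := Fi24.L12 U
  have hcard : Nat.card Spor.Fi24 = 2510411418381323442585600 := by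
    rw [Fi24.card_G U L]
  have hfin : Finite Spor.Fi24 := Nat.finite_of_card_ne_zero (by rw [hcard]; norm_num)
  obtain ⟨A, letsk, cw, h1, h2, hA, h3k, h4, h5, h6, h7⟩ := L.ex
  let A' : MulAction Spor.Fi24 (Fin P.m) := A
  have hQ : ∀ d, d ≠ 0 → d ≤ 12 → Is P (act Q d) (Fi24.gS d) := by
    have hm : ∀ d ≤ 12, d ≠ 0 → d ∈ Fi24T12.lets := by decide +kernel
    intro d h0 h1 i
    exact (hA d (hm d h1 h0) i).symm
  obtain ⟨σ, hσ⟩ := Fi24.exists_sgn U
  have hK : ∀ z, z ∈ commutator Spor.Fi24 ↔ σ z = 1 := by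
    intro z
    rw [Fi24.commutator_eq U hσ]
    exact MonoidHom.mem_ker
  have hσ' : ∀ d, d ≠ 0 → d ≤ 12 → σ (Fi24.gS d) = -1 := by
    intro d h0 h1
    rw [hσ, Fi24.sf, if_pos]
    rw [isLet_iff]
    omega
  exact out_two hQ hcard hσ' hK Fi24.fi24_card U.top (fun d _ => Fi24.sqL U d)

end Cfsg.Agent.H90.S2Fi24
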